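import Cfsg.Agent.QuarterCenter.Transvection

/-!
# Fusion is generated by the normalizers of `P` and of the abelian maximal subgroups
-/

set_option autoImplicit false
set_option maxHeartbeats 400000

namespace CfsgLib.QuarterCenter

open Subgroup

variable {G : Type*} [Group G] [Finite G] {P : Sylow 2 G} {c : G}

/-- An essential maximal abelian subgroup moves `c`. -/
def Ess (M : Subgroup G) (c : G) : Prop := ∃ n ∈ normalizer (M : Set G), n * c * n⁻¹ ≠ c

/-- A 2-element normalising `P` lies in `P`. -/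
theorem mem_of_two_element {q : G} (hq : q ∈ normalizer ((P : Subgroup G) : Set G))
    (h2 : ∃ k : ℕ, q ^ 2 ^ k = 1) : q ∈ (P : Subgroup G) := by
  haveI : Fact (Nat.Prime 2) := ⟨Nat.prime_two⟩
  obtain ⟨k, hk⟩ := h2
  have hz : IsPGroup 2 (zpowers q) := by
    rintro ⟨_, m, rfl⟩
    refine ⟨k, Subtype.ext ?_⟩
    show (q ^ m) ^ 2 ^ k = 1
    rw [← zpow_natCast, ← zpow_mul, mul_comm, zpow_mul, zpow_natCast, hk, one_zpow]
  have h := hz.to_sup_of_normal_right' P.isPGroup' (zpowers_le.2 hq)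
  rw [← P.is_maximal' h le_sup_right]
  exact le_sup_left (a := zpowers q) (mem_zpowers q)

/-- Elements of the normalizer of `P` split into a part in `P` and a part of odd order. -/
theorem exists_decomp {n : G} (hn : n ∈ normalizer ((P : Subgroup G) : Set G)) :
    ∃ q ∈ (P : Subgroup G), ∃ k ∈ normalizer ((P : Subgroup G) : Set G),
      Odd (orderOf k) ∧ n = q * k := by
  obtain ⟨a, m, hm, ho⟩ := Nat.exists_eq_two_pow_mul_odd (orderOf_pos n).ne'
  have hcop : Nat.Coprime m (2 ^ a) :=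
    (Nat.coprime_two_right.2 hm).pow_right a
  have hn1 : n ^ (2 ^ a * m) = 1 := by rw [← ho]; exact pow_orderOf_eq_one n
  refine ⟨(n ^ m) ^ Nat.gcdA m (2 ^ a), ?_, (n ^ 2 ^ a) ^ Nat.gcdB m (2 ^ a),
    zpow_mem (pow_mem hn _) _, ?_, ?_⟩
  · refine zpow_mem (mem_of_two_element (pow_mem hn _) ⟨a, ?_⟩) _
    rw [← pow_mul, mul_comm, hn1]
  · have h1 : ((n ^ 2 ^ a) ^ Nat.gcdB m (2 ^ a)) ^ m = 1 := by
      rw [← zpow_natCast, ← zpow_mul, mul_comm, zpow_mul, zpow_natCast, ← pow_mul, hn1, one_zpow]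
    exact Odd.of_dvd_nat hm (orderOf_dvd_of_pow_eq_one h1)
  · have h := Nat.gcd_eq_gcd_ab m (2 ^ a)
    rw [hcop.gcd_eq_one] at h
    rw [← zpow_natCast n m, ← zpow_mul, ← zpow_natCast n (2 ^ a), ← zpow_mul, ← zpow_add, ← h]
    simp

/-- The good subgroups of the fusion theorem. -/
theorem isGood_cases (h : Quarter (P : Subgroup G) c) {D : Subgroup G}
    (hD : AlperinGoldschmidt.IsGood P D) :
    D = (P : Subgroup G) ∨ ∃ x ∈ (P : Subgroup G), x ∉ cen (P : Subgroup G) ∧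
      D = amax (P : Subgroup G) x := by
  haveI : Fact (Nat.Prime 2) := ⟨Nat.prime_two⟩
  set N := normalizer (D : Set G) with hN
  have hDP := hD.le_sylow
  have hCD : ∀ y ∈ (P : Subgroup G), y ∈ centralizer (D : Set G) → y ∈ D := by
    intro y hyP hyC
    obtain ⟨-, -, hcm, -, hsup⟩ := hD.product
    have hy := hD.centralizer_le hyC
    rw [← hsup] at hy
    set O := (Cfsg.pPrimeCore 2 N).map N.subtype
    have hDO : D ≤ normalizer (O : Set G) := fun d hd =>
      mem_normalizer_fintype fun o ho => by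
        show d * o * d⁻¹ ∈ O
        rw [← hcm o ho d hd, mul_inv_cancel_right]
        exact ho
    rw [← SetLike.mem_coe, coe_mul_of_right_le_normalizer_left O D hDO] at hy
    obtain ⟨o, ho, d, hd, rfl⟩ := hy
    have hoP : o ∈ (P : Subgroup G) := by simpa using mul_mem hyP (inv_mem (hDP hd))
    have h1 : orderOf o ∣ Nat.card O := Subgroup.orderOf_dvd_natCard O ho
    have h2 : (Nat.card O).Coprime 2 := by
      rw [← Nat.card_congr (Subgroup.equivMapOfInjective _ N.subtype N.subtype_injective).toEquiv]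
      exact (PLocal.coprime_card_pPrimeCore 2 N)
    obtain ⟨k, hk⟩ := P.isPGroup' ⟨o, hoP⟩
    have h3 : orderOf o ∣ 2 ^ k := orderOf_dvd_of_pow_eq_one (congrArg Subtype.val hk)
    have h4 : orderOf o = 1 :=
      Nat.eq_one_of_dvd_coprimes (h2.pow_right k) h1 h3
    show o * d ∈ D
    rw [orderOf_eq_one_iff.1 h4, one_mul]
    exact hd
  have hcenD : cen (P : Subgroup G) ≤ D := fun z hz =>
    hCD z hz.1 (mem_centralizer_iff.2 fun d hd => (mem_cen.1 hz).2 d (hDP hd))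
  by_cases hex : ∃ x ∈ D, x ∉ cen (P : Subgroup G)
  · obtain ⟨x, hxD, hxZ⟩ := hex
    by_cases hDx : D ≤ amax (P : Subgroup G) x
    · refine Or.inr ⟨x, hDP hxD, hxZ, le_antisymm hDx fun m hm => ?_⟩
      exact hCD m hm.1 (mem_centralizer_iff.2 fun d hd =>
        h.amax_comm (hDP hxD) hxZ (hDx hd) hm)
    · left
      refine le_antisymm hDP fun w hw => ?_
      obtain ⟨y, hyD, hyx⟩ := SetLike.not_le_iff_exists.1 hDx
      by_cases hwZ : w ∈ cen (P : Subgroup G)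
      · exact hcenD hwZ
      have hyZ : y ∉ cen (P : Subgroup G) := fun hz => hyx (cen_le_amax (hDP hxD) hz)
      by_cases hwx : w ∈ amax (P : Subgroup G) x
      · have h1 := h.coset_of_commute hw hwZ (hDP hxD) hxZ (mem_amax.1 hwx).2
        rw [← inv_mul_cancel_right w x]
        exact mul_mem (hcenD h1) hxD
      by_cases hwy : w ∈ amax (P : Subgroup G) y
      · have h1 := h.coset_of_commute hw hwZ (hDP hyD) hyZ (mem_amax.1 hwy).2
        rw [← inv_mul_cancel_right w y]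
        exact mul_mem (hcenD h1) hyD
      have h1 := h.mem_of_not_mem (hDP hxD) hxZ (hDP hyD) hyx hw hwx hwy
      rw [← inv_mul_cancel_left (x * y) w]
      exact mul_mem (inv_mem (mul_mem hxD hyD)) (hcenD h1)
  · push Not at hex
    left
    refine le_antisymm hDP fun w hw => hCD w hw (mem_centralizer_iff.2 fun d hd =>
      ((mem_cen.1 (hex d hd)).2 w hw).symm)

/-- Closure under all conjugations inside `P` follows from closure under the local ones. -/
theorem conj_mem_of_local (S : Set G)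
    (hloc : ∀ D : Subgroup G, AlperinGoldschmidt.IsGood P D → ∀ n ∈ normalizer (D : Set G),
      ∀ a ∈ D, a ∈ S → n * a * n⁻¹ ∈ S)
    {a g : G} (ha : a ∈ S) (haP : a ∈ (P : Subgroup G)) (hg : g * a * g⁻¹ ∈ (P : Subgroup G)) :
    g * a * g⁻¹ ∈ S := by
  haveI : Fact (Nat.Prime 2) := ⟨Nat.prime_two⟩
  have hch := AlperinGoldschmidt.exists_chain (P := P) (A := {a}) (g := g⁻¹)
    (Set.singleton_subset_iff.2 haP)
    (by rw [Set.image_singleton, Set.singleton_subset_iff, inv_inv]; exact hg)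
  suffices key : ∀ (A : Set G) (u : G), AlperinGoldschmidt.GChain P A u → A ⊆ S →
      ∀ b ∈ A, u⁻¹ * b * u ∈ S by
    simpa using key _ _ hch (Set.singleton_subset_iff.2 ha) a rfl
  intro A u hu
  induction hu with
  | nil A d _ hd =>
    intro hA b hb
    rw [mul_assoc, mem_centralizer_iff.1 hd b hb, inv_mul_cancel_left]
    exact hA hb
  | cons A D y u hD hAD hy _ ih =>
    intro hA b hb
    rw [show (y * u)⁻¹ * b * (y * u) = u⁻¹ * (y⁻¹ * b * y) * u by group]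
    refine ih ?_ _ ⟨b, hb, rfl⟩
    rintro _ ⟨b', hb', rfl⟩
    simpa using hloc D hD y⁻¹ (inv_mem hy) b' (hAD hb') (hA hb')

/-- The focal subgroup is generated by the local differences. -/
theorem focalSubgroup_le_of_local (T : Subgroup G)
    (hloc : ∀ D : Subgroup G, AlperinGoldschmidt.IsGood P D → ∀ n ∈ normalizer (D : Set G),
      ∀ a ∈ D, a⁻¹ * (n * a * n⁻¹) ∈ T) :
    (P : Subgroup G).focalSubgroup ≤ T := by
  haveI : Fact (Nat.Prime 2) := ⟨Nat.prime_two⟩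
  rw [focalSubgroup_def, closure_le]
  rintro _ ⟨hgP, x, hx, u, rfl⟩
  have hu : u * x⁻¹ * u⁻¹ ∈ (P : Subgroup G) := by
    have := (P : Subgroup G).mul_mem ((P : Subgroup G).inv_mem hx) hgP
    simpa [commutatorElement_def, mul_assoc] using this
  have hch := AlperinGoldschmidt.exists_chain (P := P) (A := {x⁻¹}) (g := u⁻¹)
    (Set.singleton_subset_iff.2 ((P : Subgroup G).inv_mem hx))
    (by rw [Set.image_singleton, Set.singleton_subset_iff, inv_inv]; exact hu)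
  suffices key : ∀ (A : Set G) (v : G), AlperinGoldschmidt.GChain P A v →
      ∀ b ∈ A, b⁻¹ * (v⁻¹ * b * v) ∈ T by
    simpa [commutatorElement_def, mul_assoc] using key _ _ hch x⁻¹ rfl
  intro A v hv
  induction hv with
  | nil A d _ hd =>
    intro b hb
    rw [mul_assoc d⁻¹, mem_centralizer_iff.1 hd b hb, inv_mul_cancel_left, inv_mul_cancel]
    exact one_mem T
  | cons A D y v hD hAD hy _ ih =>
    intro b hb
    have h1 : b⁻¹ * (y⁻¹ * b * y) ∈ T := by simpa using hloc D hD y⁻¹ (inv_mem hy) b (hAD hb)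
    have h2 := ih _ ⟨b, hb, rfl⟩
    rw [show b⁻¹ * ((y * v)⁻¹ * b * (y * v))
      = (b⁻¹ * (y⁻¹ * b * y)) * ((y⁻¹ * b * y)⁻¹ * (v⁻¹ * (y⁻¹ * b * y) * v)) by group]
    exact mul_mem h1 h2

namespace Quarter

/-- Conjugates of the transvection act by their centre. -/
theorem transvection_cases (h : Quarter (P : Subgroup G) c) {x p n a : G}
    (hx : x ∈ (P : Subgroup G)) (hp : p ∈ (P : Subgroup G)) (hpx : p ∉ amax (P : Subgroup G) x)
    (hn : n ∈ normalizer (amax (P : Subgroup G) x : Set G)) (ha : a ∈ amax (P : Subgroup G) x) :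
    n * p * n⁻¹ * a * (n * p * n⁻¹)⁻¹ = a ∨
      n * p * n⁻¹ * a * (n * p * n⁻¹)⁻¹ = n * c * n⁻¹ * a := by
  have ha' := conj_inv_mem hn ha
  by_cases hz : n⁻¹ * a * n ∈ cen (P : Subgroup G)
  · left
    calc n * p * n⁻¹ * a * (n * p * n⁻¹)⁻¹ = n * (p * (n⁻¹ * a * n) * p⁻¹) * n⁻¹ := by group
      _ = a := by rw [h.conj_cen hp hz]; group
  · right
    calc n * p * n⁻¹ * a * (n * p * n⁻¹)⁻¹ = n * (p * (n⁻¹ * a * n) * p⁻¹) * n⁻¹ := by group
      _ = n * c * n⁻¹ * a := by rw [h.conj_amax hx hp hpx ha' hz]; group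

/-- An element of `N(M)` is a product of a transvection pair and an element of `C(M) N(P)`. -/
theorem exists_reduce (h : Quarter (P : Subgroup G) c) {x n : G} (hx : x ∈ (P : Subgroup G))
    (hxZ : x ∉ cen (P : Subgroup G)) {p : G} (hp : p ∈ (P : Subgroup G))
    (hpx : p ∉ amax (P : Subgroup G) x)
    (hn : n ∈ normalizer (amax (P : Subgroup G) x : Set G)) (hne : n * c * n⁻¹ ≠ c) :
    ∃ n₁ ∈ normalizer (amax (P : Subgroup G) x : Set G), n₁ * c * n₁⁻¹ = c ∧
      n = p * (n * p * n⁻¹) * n₁ := by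
  have hpN := mem_normalizer_amax h hx hxZ hp
  have hec := h.conjC_mem hx ⟨n, hn, rfl⟩
  have h1 := h.conj_conjC hx hp hpx hn (conjC_self _ c) (Ne.symm hne)
  have h2 : p * (n * c * n⁻¹) * p⁻¹ = c * (n * c * n⁻¹) :=
    h.conj_amax hx hp hpx hec (h.conjC_not_cen ⟨n, hn, rfl⟩ hne)
  set w := p * (n * p * n⁻¹) with hw
  have hwN : w ∈ normalizer (amax (P : Subgroup G) x : Set G) :=
    mul_mem hpN (mul_mem (mul_mem hn hpN) (inv_mem hn))
  have hwc : w * c * w⁻¹ = n * c * n⁻¹ := by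
    calc w * c * w⁻¹ = p * (n * p * n⁻¹ * c * (n * p * n⁻¹)⁻¹) * p⁻¹ := by rw [hw]; group
      _ = p * (n * c * n⁻¹) * p⁻¹ * (p * c * p⁻¹) := by rw [h1]; group
      _ = c * (n * c * n⁻¹) * c := by rw [h2, h.conj_cen hp h.mem_cen]
      _ = n * c * n⁻¹ := by
        rw [h.amax_comm hx hxZ (cen_le_amax hx h.mem_cen) hec, mul_assoc, h.mul_self, mul_one]
  refine ⟨w⁻¹ * n, mul_mem (inv_mem hwN) hn, ?_, (mul_inv_cancel_left _ _).symm⟩
  calc w⁻¹ * n * c * (w⁻¹ * n)⁻¹ = w⁻¹ * (n * c * n⁻¹) * w := by group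
    _ = c := by rw [← hwc]; group

/-- Closure under `N(M)`. -/
theorem conj_mem_of_normalizer_amax (h : Quarter (P : Subgroup G) c) (S : Set G)
    (hN : ∀ n ∈ normalizer ((P : Subgroup G) : Set G), ∀ a ∈ (P : Subgroup G), a ∈ S →
      n * a * n⁻¹ ∈ S)
    {x : G} (hx : x ∈ (P : Subgroup G)) (hxZ : x ∉ cen (P : Subgroup G))
    (hT : ∀ n ∈ normalizer (amax (P : Subgroup G) x : Set G), n * c * n⁻¹ ≠ c →
      ∀ p ∈ (P : Subgroup G), p ∉ amax (P : Subgroup G) x → ∀ a ∈ amax (P : Subgroup G) x, a ∈ S →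
        n * p * n⁻¹ * a * (n * p * n⁻¹)⁻¹ ∈ S)
    {n a : G} (hn : n ∈ normalizer (amax (P : Subgroup G) x : Set G))
    (ha : a ∈ amax (P : Subgroup G) x) (haS : a ∈ S) : n * a * n⁻¹ ∈ S := by
  have key : ∀ n ∈ normalizer (amax (P : Subgroup G) x : Set G), n * c * n⁻¹ = c →
      ∀ a ∈ amax (P : Subgroup G) x, a ∈ S → n * a * n⁻¹ ∈ S := by
    intro n hn hnc a ha haS
    obtain ⟨y, hy, n₀, hn₀, hn₀M, rfl⟩ := h.exists_centralizer_mul hx hxZ hn hnc
    have h1 := (mem_normalizer_iff.1 hn₀M a).1 ha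
    rw [show y * n₀ * a * (y * n₀)⁻¹ = y * (n₀ * a * n₀⁻¹) * y⁻¹ by group,
      ← mem_centralizer_iff.1 hy _ h1, mul_inv_cancel_right]
    exact hN n₀ hn₀ a ha.1 haS
  by_cases hne : n * c * n⁻¹ = c
  · exact key n hn hne a ha haS
  obtain ⟨p, hp, hpx⟩ := h.exists_notMem_amax hx hxZ
  have hpN := mem_normalizer_amax h hx hxZ hp
  obtain ⟨n₁, hn₁, hn₁c, he⟩ := h.exists_reduce hx hxZ hp hpx hn hne
  have h1 := key n₁ hn₁ hn₁c a ha haS
  have h1M := (mem_normalizer_iff.1 hn₁ a).1 ha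
  have h2 := hT n hn hne p hp hpx _ h1M h1
  have h2M := (mem_normalizer_iff.1 (mul_mem (mul_mem hn hpN) (inv_mem hn)) _).1 h1M
  have h3 := hN p (le_normalizer hp) _ h2M.1 h2
  rw [show n * a * n⁻¹ = p * (n * p * n⁻¹ * (n₁ * a * n₁⁻¹) * (n * p * n⁻¹)⁻¹) * p⁻¹ by
    conv_lhs => rw [he]
    group]
  exact h3

/-- Local differences under `N(M)`. -/
theorem diff_mem_of_normalizer_amax (h : Quarter (P : Subgroup G) c) (T : Subgroup G)
    (hN : ∀ n ∈ normalizer ((P : Subgroup G) : Set G), ∀ a ∈ (P : Subgroup G),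
      a⁻¹ * (n * a * n⁻¹) ∈ T)
    {x : G} (hx : x ∈ (P : Subgroup G)) (hxZ : x ∉ cen (P : Subgroup G))
    (hT : ∀ e, ConjC (amax (P : Subgroup G) x) c e → e ≠ c → e ∈ T)
    {n a : G} (hn : n ∈ normalizer (amax (P : Subgroup G) x : Set G))
    (ha : a ∈ amax (P : Subgroup G) x) : a⁻¹ * (n * a * n⁻¹) ∈ T := by
  have key : ∀ n ∈ normalizer (amax (P : Subgroup G) x : Set G), n * c * n⁻¹ = c →
      ∀ a ∈ amax (P : Subgroup G) x, a⁻¹ * (n * a * n⁻¹) ∈ T := by
    intro n hn hnc a ha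
    obtain ⟨y, hy, n₀, hn₀, hn₀M, rfl⟩ := h.exists_centralizer_mul hx hxZ hn hnc
    have h1 := (mem_normalizer_iff.1 hn₀M a).1 ha
    rw [show y * n₀ * a * (y * n₀)⁻¹ = y * (n₀ * a * n₀⁻¹) * y⁻¹ by group,
      ← mem_centralizer_iff.1 hy _ h1, mul_inv_cancel_right]
    exact hN n₀ hn₀ a ha.1
  by_cases hne : n * c * n⁻¹ = c
  · exact key n hn hne a ha
  obtain ⟨p, hp, hpx⟩ := h.exists_notMem_amax hx hxZ
  have hpN := mem_normalizer_amax h hx hxZ hp
  obtain ⟨n₁, hn₁, hn₁c, he⟩ := h.exists_reduce hx hxZ hp hpx hn hne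
  set a₁ := n₁ * a * n₁⁻¹ with ha₁
  have h1M : a₁ ∈ amax (P : Subgroup G) x := (mem_normalizer_iff.1 hn₁ a).1 ha
  set a₂ := n * p * n⁻¹ * a₁ * (n * p * n⁻¹)⁻¹ with ha₂
  have h2M : a₂ ∈ amax (P : Subgroup G) x :=
    (mem_normalizer_iff.1 (mul_mem (mul_mem hn hpN) (inv_mem hn)) _).1 h1M
  have h2 : a₁⁻¹ * a₂ ∈ T := by
    rcases h.transvection_cases hx hp hpx hn h1M with e | e
    · rw [ha₂, e, inv_mul_cancel]; exact one_mem T
    · have hec := h.conjC_mem hx ⟨n, hn, rfl⟩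
      rw [ha₂, e, h.amax_comm hx hxZ hec h1M, inv_mul_cancel_left]
      exact hT _ ⟨n, hn, rfl⟩ hne
  have h3 := hN p (le_normalizer hp) a₂ h2M.1
  rw [show n * a * n⁻¹ = p * a₂ * p⁻¹ by
    rw [ha₂, ha₁]
    conv_lhs => rw [he]
    group]
  rw [show a⁻¹ * (p * a₂ * p⁻¹) = (a⁻¹ * a₁) * (a₁⁻¹ * a₂) * (a₂⁻¹ * (p * a₂ * p⁻¹)) by group]
  exact mul_mem (mul_mem (key n₁ hn₁ hn₁c a ha) h2) h3

end Quarter

end CfsgLib.QuarterCenter
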