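import Cfsg.Agent.QuarterCenter.Module
import Cfsg.Agent.QuarterCenter.Fusion
import Cfsg.Agent.Transfer.Abelian
import Cfsg.Agent.ProductFusion.DirectProduct
import Cfsg.Agent.Inv54.Core
import Cfsg.Agent.S0949

/-!
# Simple groups with an abelian Sylow 2-subgroup having an invariant subgroup of index four
-/

set_option autoImplicit false
set_option maxHeartbeats 400000

namespace CfsgLib.QuarterCenter

open Subgroup


theorem conj_pow_mem {L : Type*} [Group L] {S : Subgroup L} {n a : L} (hn : n ∈ normalizer (S : Set L)) (ha : a ∈ S) :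
    n * a * n⁻¹ ∈ S :=
  (mem_normalizer_iff.1 hn a).1 ha

/-- A group `H` normalising the abelian `Q`, with coprime action, centralises it if no invariant
factorisation of `Q` exists and the commutators lie in a proper part. -/
theorem centralizes_of_indecomposable {L : Type*} [Group L] [Finite L] {Q H N Z : Subgroup L}
    (hQ2 : IsPGroup 2 Q) (hQc : ∀ a ∈ Q, ∀ b ∈ Q, a * b = b * a) (hQH : Q ≤ H)
    (hHQ : H ≤ normalizer (Q : Set L)) (hidx : ¬ 2 ∣ Q.relIndex H)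
    (hN : N ≤ normalizer (Q : Set L)) (hHnorm : ∀ n ∈ N, ∀ k ∈ H, n * k * n⁻¹ ∈ H)
    (hZ : ∀ k ∈ H, ∀ a ∈ Q, a⁻¹ * (k * a * k⁻¹) ∈ Z) (hZQ : Z ≤ Q) {a₀ : L} (ha₀ : a₀ ∈ Q)
    (ha₀Z : a₀ ∉ Z)
    (hprod : ∀ S₁ S₂ : Subgroup L, S₁ ≤ Q → S₂ ≤ Q →
      (∀ n ∈ N, ∀ a ∈ S₁, n * a * n⁻¹ ∈ S₁) → (∀ n ∈ N, ∀ a ∈ S₂, n * a * n⁻¹ ∈ S₂) →
      S₁ ⊓ S₂ = ⊥ → S₁ ⊔ S₂ = Q → S₁ = ⊥ ∨ S₂ = ⊥) :
    ∀ k ∈ H, ∀ a ∈ Q, k * a * k⁻¹ = a := by
  classical
  haveI : Fact (Nat.Prime 2) := ⟨Nat.prime_two⟩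
  letI : CommGroup Q :=
    { (inferInstance : Group Q) with mul_comm := fun a b => Subtype.ext (hQc a a.2 b b.2) }
  haveI : (Q.subgroupOf H).Normal :=
    (normal_subgroupOf_iff_le_normalizer hQH).2 hHQ
  haveI : Fintype (H ⧸ Q.subgroupOf H) := Fintype.ofFinite _
  let f : (H ⧸ Q.subgroupOf H) → ↥Q → ↥Q :=
    Quotient.lift (fun (n : H) (a : ↥Q) =>
      (⟨n * a * (n : L)⁻¹, conj_pow_mem (hHQ n.2) a.2⟩ : Q)) (by
      intro n m hnm
      replace hnm : ((n⁻¹ * m : H) : L) ∈ Q :=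
        mem_subgroupOf.1 (QuotientGroup.leftRel_apply.1 hnm)
      funext a
      apply Subtype.ext
      show (n : L) * a * (n : L)⁻¹ = m * a * (m : L)⁻¹
      have h1 := hQc _ hnm a a.2
      calc (n : L) * a * (n : L)⁻¹
          = (n : L) * (a * ((n⁻¹ * m : H) : L)) * ((n⁻¹ * m : H) : L)⁻¹ * (n : L)⁻¹ := by group
        _ = (n : L) * (((n⁻¹ * m : H) : L) * a) * ((n⁻¹ * m : H) : L)⁻¹ * (n : L)⁻¹ := by rw [h1]
        _ = m * a * (m : L)⁻¹ := by simp only [coe_mul, coe_inv]; group)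
  have hf : ∀ (n : H) (a : Q), (f n a : L) = n * a * (n : L)⁻¹ := fun _ _ => rfl
  let φ : ↥Q →* ↥Q := MonoidHom.mk' (fun a => ∏ q, f q a) fun a b => by
    rw [← Finset.prod_mul_distrib]
    refine Finset.prod_congr rfl fun q _ => ?_
    induction q using QuotientGroup.induction_on with
    | H n => exact Subtype.ext (by rw [coe_mul, hf, hf, hf, coe_mul]; group)
  set d := Nat.card (H ⧸ Q.subgroupOf H) with hd
  have hdodd : Odd d := by
    rw [Nat.odd_iff, ← Nat.two_dvd_ne_zero, hd, ← index_eq_card]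
    intro h2
    exact hidx h2
  -- the fixed and the moved part
  let F : Subgroup L :=
    { carrier := {a | a ∈ Q ∧ ∀ k ∈ H, k * a * k⁻¹ = a}
      one_mem' := ⟨one_mem _, fun k _ => by group⟩
      mul_mem' := fun {a b} ha hb => ⟨mul_mem ha.1 hb.1, fun k hk => by
        rw [show k * (a * b) * k⁻¹ = k * a * k⁻¹ * (k * b * k⁻¹) by group, ha.2 k hk, hb.2 k hk]⟩
      inv_mem' := fun {a} ha => ⟨inv_mem ha.1, fun k hk => by
        rw [show k * a⁻¹ * k⁻¹ = (k * a * k⁻¹)⁻¹ by group, ha.2 k hk]⟩ }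
  let X : Subgroup L := closure {x | ∃ a ∈ Q, ∃ k ∈ H, x = a⁻¹ * (k * a * k⁻¹)}
  have hXZ : X ≤ Z := (closure_le _).2 (by rintro _ ⟨a, ha, k, hk, rfl⟩; exact hZ k hk a ha)
  have hXQ : X ≤ Q := hXZ.trans hZQ
  have hFN : ∀ n ∈ N, ∀ a ∈ F, n * a * n⁻¹ ∈ F := fun n hn a ha => ⟨conj_pow_mem (hN hn) ha.1, fun k hk => by
    have h1 := ha.2 _ (hHnorm n⁻¹ (inv_mem hn) k hk)
    calc k * (n * a * n⁻¹) * k⁻¹ = n * (n⁻¹ * k * n⁻¹⁻¹ * a * (n⁻¹ * k * n⁻¹⁻¹)⁻¹) * n⁻¹ := by group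
      _ = n * a * n⁻¹ := by rw [h1]⟩
  have hXN : ∀ n ∈ N, ∀ x ∈ X, n * x * n⁻¹ ∈ X := by
    intro n hn x hx
    induction hx using closure_induction with
    | mem x hx =>
      obtain ⟨a, ha, k, hk, rfl⟩ := hx
      refine subset_closure ⟨_, conj_pow_mem (hN hn) ha, _, hHnorm n hn k hk, ?_⟩
      group
    | one => simp
    | mul a b _ _ ha hb =>
      rw [show n * (a * b) * n⁻¹ = n * a * n⁻¹ * (n * b * n⁻¹) by group]
      exact mul_mem ha hb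
    | inv a _ ha =>
      rw [show n * a⁻¹ * n⁻¹ = (n * a * n⁻¹)⁻¹ by group]
      exact inv_mem ha
  have hφshift : ∀ (a : Q) (k : H), φ (f k a) = φ a := by
    intro a k
    show ∏ q, f q (f k a) = ∏ q, f q a
    refine Fintype.prod_equiv (Equiv.mulRight (k : H ⧸ Q.subgroupOf H)) _ _ fun q => ?_
    induction q using QuotientGroup.induction_on with
    | H n =>
      apply Subtype.ext
      show _ = (f (((n : H ⧸ Q.subgroupOf H)) * k) a : L)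
      rw [← QuotientGroup.mk_mul, hf, hf, hf, coe_mul]
      group
  have hφF : ∀ a : Q, ((φ a : Q) : L) ∈ F := fun a => ⟨(φ a).2, fun k hk => by
    have h1 : f (⟨k, hk⟩ : H) (φ a) = φ a := by
      show f (⟨k, hk⟩ : H) (∏ q, f q a) = ∏ q, f q a
      have hhom : f (⟨k, hk⟩ : H) (∏ q, f q a) = ∏ q, f (⟨k, hk⟩ : H) (f q a) :=
        map_prod (MonoidHom.mk' (f (⟨k, hk⟩ : H)) fun a b => Subtype.ext (by
          rw [coe_mul, hf, hf, hf, coe_mul]; group)) _ _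
      rw [hhom]
      refine Fintype.prod_equiv (Equiv.mulLeft ((⟨k, hk⟩ : H) : H ⧸ Q.subgroupOf H))
        _ _ fun q => ?_
      induction q using QuotientGroup.induction_on with
      | H n =>
        apply Subtype.ext
        show _ = (f (((⟨k, hk⟩ : H) : H ⧸ Q.subgroupOf H) * n) a : L)
        rw [← QuotientGroup.mk_mul, hf, hf, hf, coe_mul]
        group
    exact congrArg Subtype.val h1⟩
  have hφX : ∀ a : Q, ((a ^ d)⁻¹ * φ a : Q).1 ∈ X := by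
    intro a
    have e : (a ^ d)⁻¹ * φ a = ∏ q : H ⧸ Q.subgroupOf H, a⁻¹ * f q a := by
      rw [Finset.prod_mul_distrib, Finset.prod_const, Finset.card_univ, ← Nat.card_eq_fintype_card,
        inv_pow]
      rfl
    rw [e]
    refine (X.comap Q.subtype).prod_mem fun q _ => ?_
    induction q using QuotientGroup.induction_on with
    | H n => exact subset_closure ⟨a, a.2, n, n.2, by simp [hf]⟩
  have hsup : F ⊔ X = Q := by
    refine le_antisymm (sup_le (fun a ha => ha.1) hXQ) fun a ha => ?_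
    have h1 : ((⟨a, ha⟩ : Q) ^ d : Q).1 ∈ F ⊔ X := by
      have h2 := mul_mem (mem_sup_left (hφF ⟨a, ha⟩) : _ ∈ F ⊔ X)
        (inv_mem (mem_sup_right (hφX ⟨a, ha⟩) : _ ∈ F ⊔ X))
      rwa [← coe_inv, ← coe_mul, mul_inv_rev, inv_inv, mul_inv_cancel_left] at h2
    obtain ⟨k, hk⟩ := hQ2 ⟨a, ha⟩
    have hcop : (orderOf a).Coprime d :=
      Nat.Coprime.coprime_dvd_left
        (orderOf_dvd_of_pow_eq_one (show a ^ 2 ^ k = 1 from congrArg Subtype.val hk))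
        ((Nat.coprime_two_left.2 hdodd).pow_left k)
    obtain ⟨j, hj⟩ := exists_pow_eq_self_of_coprime hcop.symm
    rw [← hj]
    exact pow_mem h1 j
  have hdisj : F ⊓ X = ⊥ := by
    refine (eq_bot_iff_forall _).2 fun a ⟨haF, haX⟩ => ?_
    have h1 : φ ⟨a, haF.1⟩ = ⟨a, haF.1⟩ ^ d := by
      show ∏ q, f q ⟨a, haF.1⟩ = _
      rw [Finset.prod_congr rfl (g := fun _ => (⟨a, haF.1⟩ : Q)) fun q _ => by
        induction q using QuotientGroup.induction_on with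
        | H n => exact Subtype.ext (haF.2 n n.2), Finset.prod_const, Finset.card_univ,
        ← Nat.card_eq_fintype_card]
    have hker : X ≤ φ.ker.map Q.subtype := by
      refine (closure_le _).2 ?_
      rintro _ ⟨b, hb, k, hk, rfl⟩
      refine ⟨⟨b, hb⟩⁻¹ * f (⟨k, hk⟩ : H) ⟨b, hb⟩, ?_, ?_⟩
      · show φ _ = 1
        rw [map_mul, map_inv, hφshift, inv_mul_cancel]
      · simp [hf]
    obtain ⟨b, hb, hba⟩ := hker haX
    have hb' : φ ⟨a, haF.1⟩ = 1 := by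
      rw [show (⟨a, haF.1⟩ : Q) = b from Subtype.ext hba.symm]
      exact hb
    rw [h1] at hb'
    obtain ⟨k, hk⟩ := hQ2 ⟨a, haF.1⟩
    have h3 := pow_gcd_eq_one.2 ⟨hb', hk⟩
    rw [((Nat.coprime_two_right.2 hdodd).pow_right k).gcd_eq_one, pow_one] at h3
    exact congrArg Subtype.val h3
  rcases hprod F X (fun a ha => ha.1) hXQ hFN hXN hdisj hsup with h | h
  · rw [h, bot_sup_eq] at hsup
    exact absurd (hXZ (hsup.symm ▸ ha₀)) ha₀Z
  · intro k hk a ha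
    have h1 : a⁻¹ * (k * a * k⁻¹) ∈ X := subset_closure ⟨a, ha, k, hk, rfl⟩
    rw [h, mem_bot, inv_mul_eq_one] at h1
    exact h1.symm

/-- An element of odd order fixing one non-trivial coset of `Z` in `Q` fixes all. -/
theorem fixes_all_of_fixes_one {L : Type*} [Group L] {Q Z : Subgroup L}
    (hQc : ∀ a ∈ Q, ∀ b ∈ Q, a * b = b * a)
    (hZN : ∀ n ∈ normalizer (Q : Set L), ∀ z ∈ Z, n * z * n⁻¹ ∈ Z)
    (hthird : ∀ a ∈ Q, a ∉ Z → ∀ b ∈ Q, b ∉ Z →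
      ∀ w ∈ Q, w ∉ Z → a * b⁻¹ ∉ Z → a * w⁻¹ ∉ Z → b * w⁻¹ ∉ Z → a * b * w ∈ Z)
    {k : L} (hk : k ∈ normalizer (Q : Set L)) (ho : Odd (orderOf k)) {a : L} (ha : a ∈ Q)
    (haZ : a ∉ Z) (hka : a⁻¹ * (k * a * k⁻¹) ∈ Z) : ∀ b ∈ Q, b⁻¹ * (k * b * k⁻¹) ∈ Z := by
  have hZconj : ∀ n ∈ normalizer (Q : Set L), ∀ a, a ∉ Z → n * a * n⁻¹ ∉ Z := fun n hn a ha h => ha (by
    have := hZN n⁻¹ (inv_mem hn) _ h
    rwa [show n⁻¹ * (n * a * n⁻¹) * n⁻¹⁻¹ = a by group] at this)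
  letI : CommGroup ↥Q :=
    { (inferInstance : Group ↥Q) with mul_comm := fun a b => Subtype.ext (hQc a a.2 b b.2) }
  intro b hb
  by_cases hbZ : b ∈ Z
  · exact mul_mem (inv_mem hbZ) (hZN k hk b hbZ)
  by_contra hkb
  have hb' := conj_pow_mem hk hb
  have hb'Z := hZconj k hk b hbZ
  have hka' : k * a * k⁻¹ ∈ Q := conj_pow_mem hk ha
  -- `a`, `b`, `k b` lie in three different cosets
  have hab : a * b⁻¹ ∉ Z := fun h => hkb (by
    have h1 := hZN k hk _ h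
    have e : b⁻¹ * (k * b * k⁻¹) = (a⁻¹ * (k * a * k⁻¹)) * ((a * b⁻¹) * (k * (a * b⁻¹) * k⁻¹)⁻¹) := by
      have key : ∀ (A : Type _) [CommGroup A] (u v u' v' : A),
          v⁻¹ * v' = u⁻¹ * u' * (u * v⁻¹ * (u' * v'⁻¹)⁻¹) := fun A _ u v u' v' => by
        rw [mul_inv_rev, inv_inv, show u⁻¹ * u' * (u * v⁻¹ * (v' * u'⁻¹)) = v⁻¹ * v' * (u⁻¹ * u) * (u' * u'⁻¹) by
          simp only [mul_assoc, mul_comm, mul_left_comm], inv_mul_cancel, mul_inv_cancel, mul_one, mul_one]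
      rw [show k * (a * b⁻¹) * k⁻¹ = k * a * k⁻¹ * (k * b * k⁻¹)⁻¹ by group]
      exact congrArg Subtype.val (key ↥Q ⟨a, ha⟩ ⟨b, hb⟩ ⟨_, hka'⟩ ⟨_, hb'⟩)
    rw [e]
    exact mul_mem hka (mul_mem h (inv_mem h1)))
  have hab' : a * (k * b * k⁻¹)⁻¹ ∉ Z := fun h => hab (by
    have h0 : k * a * k⁻¹ * (k * b * k⁻¹)⁻¹ ∈ Z := by
      have := mul_mem hka h
      rwa [show a⁻¹ * (k * a * k⁻¹) * (a * (k * b * k⁻¹)⁻¹)
        = k * a * k⁻¹ * (k * b * k⁻¹)⁻¹ by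
          rw [← mul_assoc, mul_assoc a⁻¹, hQc _ hka' a ha, ← mul_assoc, inv_mul_cancel, one_mul]] at this
    have h1 := hZN k⁻¹ (inv_mem hk) _ h0
    rwa [show k⁻¹ * (k * a * k⁻¹ * (k * b * k⁻¹)⁻¹) * k⁻¹⁻¹ = a * b⁻¹ by group] at h1)
  have hbb : b * (k * b * k⁻¹)⁻¹ ∉ Z := fun h => hkb (by
    rw [hQc b hb _ (Q.inv_mem hb')] at h
    have h' := inv_mem h; rwa [mul_inv_rev, inv_inv] at h')
  -- hence `k²` fixes the coset of `b`
  have h1 := hthird a ha haZ b hb hbZ _ hb' hb'Z hab hab' hbb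
  have h2 := hZN k hk _ h1
  have h3 : b⁻¹ * (k * k * b * (k * k)⁻¹) ∈ Z := by
    have h4 := mul_mem (mul_mem (inv_mem h1) h2) (inv_mem hka)
    have hbb' : k * (k * b * k⁻¹) * k⁻¹ ∈ Q := conj_pow_mem hk hb'
    rwa [show (a * b * (k * b * k⁻¹))⁻¹ * (k * (a * b * (k * b * k⁻¹)) * k⁻¹) * (a⁻¹ * (k * a * k⁻¹))⁻¹
        = b⁻¹ * (k * k * b * (k * k)⁻¹) by
      have key : ∀ (A : Type _) [CommGroup A] (u v w u' w' : A),
          (u * v * w)⁻¹ * (u' * w * w') * (u⁻¹ * u')⁻¹ = v⁻¹ * w' := fun A _ u v w u' w' => by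
        rw [mul_inv_rev, mul_inv_rev, mul_inv_rev, inv_inv,
          show w⁻¹ * (v⁻¹ * u⁻¹) * (u' * w * w') * (u'⁻¹ * u) = v⁻¹ * w' * (w⁻¹ * w) * (u⁻¹ * u) * (u'⁻¹ * u') by
            simp only [mul_assoc, mul_comm, mul_left_comm],
          inv_mul_cancel, inv_mul_cancel, inv_mul_cancel, mul_one, mul_one, mul_one]
      have e1 : k * (a * b * (k * b * k⁻¹)) * k⁻¹
          = (k * a * k⁻¹) * (k * b * k⁻¹) * (k * (k * b * k⁻¹) * k⁻¹) := by group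
      have e2 : k * k * b * (k * k)⁻¹ = k * (k * b * k⁻¹) * k⁻¹ := by group
      rw [e1, e2]
      exact congrArg Subtype.val (key ↥Q ⟨a, ha⟩ ⟨b, hb⟩ ⟨_, hb'⟩ ⟨_, hka'⟩ ⟨_, hbb'⟩)] at h4
  -- but then so does `k`
  obtain ⟨j, hj⟩ := ho
  have hk1 : k = ((k * k) ^ j)⁻¹ := by
    refine eq_inv_of_mul_eq_one_left ?_
    rw [← pow_two, ← pow_mul, ← pow_succ', ← hj, pow_orderOf_eq_one]
  let Sb : Subgroup L :=
    { carrier := {n | n ∈ normalizer (Q : Set L) ∧ b⁻¹ * (n * b * n⁻¹) ∈ Z}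
      one_mem' := ⟨one_mem _, by simp⟩
      mul_mem' := by
        rintro n m ⟨hn, hn'⟩ ⟨hm, hm'⟩
        refine ⟨mul_mem hn hm, ?_⟩
        rw [show b⁻¹ * (n * m * b * (n * m)⁻¹)
          = b⁻¹ * (n * b * n⁻¹) * (n * (b⁻¹ * (m * b * m⁻¹)) * n⁻¹) by group]
        exact mul_mem hn' (hZN n hn _ hm')
      inv_mem' := by
        rintro n ⟨hn, hn'⟩
        refine ⟨inv_mem hn, ?_⟩
        have := inv_mem (hZN n⁻¹ (inv_mem hn) _ hn')
        rwa [show (n⁻¹ * (b⁻¹ * (n * b * n⁻¹)) * n⁻¹⁻¹)⁻¹ = b⁻¹ * (n⁻¹ * b * n⁻¹⁻¹) by group] at this }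
  have hkk : k * k ∈ Sb := ⟨mul_mem hk hk, h3⟩
  have : k ∈ Sb := hk1 ▸ inv_mem (pow_mem hkk j)
  exact hkb this.2

/-- An invariant subgroup of index four forces a four-group. -/
theorem sylow_four {L : Type*} [Group L] [Finite L] [IsSimpleGroup L] {Q : Sylow 2 L} (hna : ¬ IsMulCommutative L) (hab : IsMulCommutative (Q : Subgroup L))
    (Z : Subgroup L) (hZQ : Z ≤ (Q : Subgroup L))
    (hZN : ∀ n ∈ normalizer ((Q : Subgroup L) : Set L), ∀ z ∈ Z, n * z * n⁻¹ ∈ Z)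
    (hsq : ∀ a ∈ (Q : Subgroup L), a * a ∈ Z)
    (hthird : ∀ a ∈ (Q : Subgroup L), a ∉ Z → ∀ b ∈ (Q : Subgroup L), b ∉ Z →
      ∀ w ∈ (Q : Subgroup L), w ∉ Z → a * b⁻¹ ∉ Z → a * w⁻¹ ∉ Z → b * w⁻¹ ∉ Z → a * b * w ∈ Z)
    (hne : ∃ a ∈ (Q : Subgroup L), a ∉ Z) :
    Nonempty ((Q : Subgroup L) ≃* DihedralGroup 2) := by
  classical
  haveI : Fact (Nat.Prime 2) := ⟨Nat.prime_two⟩
  set N := normalizer ((Q : Subgroup L) : Set L) with hN
  have hQc : ∀ a ∈ (Q : Subgroup L), ∀ b ∈ (Q : Subgroup L), a * b = b * a := fun a ha b hb =>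
    congrArg Subtype.val (mul_comm' (⟨a, ha⟩ : (Q : Subgroup L)) ⟨b, hb⟩)
  have htop : commutator L = ⊤ := by
    rcases IsSimpleGroup.eq_bot_or_eq_top_of_normal (commutator L) inferInstance with h | h
    · refine absurd ⟨⟨fun a b => ?_⟩⟩ hna
      have h1 := commutator_mem_commutator (mem_top a) (mem_top b)
      rw [show (⁅(⊤ : Subgroup L), ⊤⁆) = ⊥ from h, mem_bot] at h1
      exact commutatorElement_eq_one_iff_mul_comm.1 h1
    · exact h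
  -- `Q` is generated by its differences under `N`
  have hgen : ∀ T : Subgroup L, (∀ n ∈ N, ∀ a ∈ (Q : Subgroup L), a⁻¹ * (n * a * n⁻¹) ∈ T) →
      (Q : Subgroup L) ≤ T := by
    intro T hT
    have h := Transfer.commutator_inf_eq_commutator_normalizer Q hab
    rw [htop, top_inf_eq] at h
    conv_lhs => rw [h]
    rw [commutator_le]
    intro a ha n hn
    have := hT n hn a⁻¹ ((Q : Subgroup L).inv_mem ha)
    rw [inv_inv] at this
    rwa [commutatorElement_def, show a * n * a⁻¹ * n⁻¹ = a * (n * a⁻¹ * n⁻¹) by group]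
  obtain ⟨a₀, ha₀, ha₀Z⟩ := hne
  have hZeven : Even (Nat.card L) := by
    rw [even_iff_two_dvd]
    by_contra h2
    apply ha₀Z
    have h3 : Nat.card (Q : Subgroup L) = 1 := by
      obtain ⟨k, hk⟩ := IsPGroup.iff_card.1 Q.isPGroup'
      rcases k with _ | k
      · simpa using hk
      · exact absurd ((dvd_pow_self 2 (Nat.succ_ne_zero k)).trans (hk ▸ card_subgroup_dvd_card _)) h2
    rw [Subgroup.card_eq_one] at h3
    rw [h3, mem_bot] at ha₀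
    exact ha₀ ▸ one_mem Z
  have hoddbot : ∀ M : Subgroup L, M.Normal → Odd (Nat.card M) → M = ⊥ := fun M hM ho =>
    (IsSimpleGroup.eq_bot_or_eq_top_of_normal M hM).resolve_right fun h => by
      rw [h, card_top] at ho
      exact (Nat.not_even_iff_odd.2 ho) hZeven
  -- invariant factorisations are trivial
  have hprodZ : ∀ S₁ S₂ : Subgroup L, S₁ ≤ (Q : Subgroup L) → S₂ ≤ (Q : Subgroup L) →
      (∀ n ∈ N, ∀ a ∈ S₁, n * a * n⁻¹ ∈ S₁) → (∀ n ∈ N, ∀ a ∈ S₂, n * a * n⁻¹ ∈ S₂) →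
      S₁ ⊓ S₂ = ⊥ → S₁ ⊔ S₂ = (Q : Subgroup L) → S₁ = ⊥ ∨ S₂ = ⊥ := by
    intro S₁ S₂ h1 h2 hn1 hn2 hd hs
    by_contra hc
    push Not at hc
    have hcl : ∀ S : Subgroup L, S ≤ (Q : Subgroup L) → (∀ n ∈ N, ∀ a ∈ S, n * a * n⁻¹ ∈ S) →
        Cfsg.IsStronglyClosed S (Q : Subgroup L) := by
      refine fun S hS hSN => ⟨hS, fun a ha g hg => ?_⟩
      obtain ⟨n, hn, e⟩ := Transfer.controlsFusion_normalizer_of_isMulCommutative Q hab a (hS ha) g hg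
      rw [← e]
      exact hSN n hn a ha
    obtain ⟨⟨-, -, -, hd', -⟩, -, -⟩ := ProductFusion.direct_product
      (hoddbot _ inferInstance Inv54.odd_card_oddCore) Q (hcl S₁ h1 hn1) (hcl S₂ h2 hn2)
      (fun a ha b hb => hQc a (h1 ha) b (h2 hb)) hd hs
      (fun M hM ho => (IsSimpleGroup.eq_bot_or_eq_top_of_normal M hM).resolve_left fun h => by
        rw [h, index_bot] at ho
        exact (Nat.not_even_iff_odd.2 ho) hZeven)
    have h3 : normalClosure (S₁ : Set L) = ⊤ :=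
      (IsSimpleGroup.eq_bot_or_eq_top_of_normal _ normalClosure_normal).resolve_left fun e =>
        hc.1 (le_bot_iff.1 fun x hx => e ▸ subset_normalClosure hx)
    rw [h3, top_inf_eq] at hd'
    exact hc.2 (le_bot_iff.1 fun x hx => hd' ▸ subset_normalClosure hx)
  -- the kernel of the action on the four cosets
  let H : Subgroup L :=
    { carrier := {n | n ∈ N ∧ ∀ a ∈ (Q : Subgroup L), a⁻¹ * (n * a * n⁻¹) ∈ Z}
      one_mem' := ⟨one_mem _, fun a _ => by simpa using one_mem Z⟩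
      mul_mem' := by
        rintro n m ⟨hn, hn'⟩ ⟨hm, hm'⟩
        refine ⟨mul_mem hn hm, fun a ha => ?_⟩
        rw [show a⁻¹ * (n * m * a * (n * m)⁻¹) = a⁻¹ * (m * a * m⁻¹) *
          ((m * a * m⁻¹)⁻¹ * (n * (m * a * m⁻¹) * n⁻¹)) by group]
        exact mul_mem (hm' a ha) (hn' _ (conj_pow_mem hm ha))
      inv_mem' := by
        rintro n ⟨hn, hn'⟩
        refine ⟨inv_mem hn, fun a ha => ?_⟩
        have h1 := hn' _ (conj_pow_mem (inv_mem hn) ha)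
        rw [show (n⁻¹ * a * n⁻¹⁻¹)⁻¹ * (n * (n⁻¹ * a * n⁻¹⁻¹) * n⁻¹)
          = (a⁻¹ * (n⁻¹ * a * n⁻¹⁻¹))⁻¹ by group] at h1
        simpa using inv_mem h1 }
  have hQH : (Q : Subgroup L) ≤ H := fun q hq =>
    ⟨le_normalizer hq, fun a ha => by rw [hQc q hq a ha, mul_inv_cancel_right, inv_mul_cancel]; exact one_mem Z⟩
  have hHN : H ≤ N := fun n hn => hn.1
  have hHnorm : ∀ n ∈ N, ∀ k ∈ H, n * k * n⁻¹ ∈ H := by
    rintro n hn k ⟨hk, hk'⟩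
    refine ⟨mul_mem (mul_mem hn hk) (inv_mem hn), fun a ha => ?_⟩
    have h1 := hZN n hn _ (hk' _ (conj_pow_mem (inv_mem hn) ha))
    rwa [show n * ((n⁻¹ * a * n⁻¹⁻¹)⁻¹ * (k * (n⁻¹ * a * n⁻¹⁻¹) * k⁻¹)) * n⁻¹
      = a⁻¹ * (n * k * n⁻¹ * a * (n * k * n⁻¹)⁻¹) by group] at h1
  -- `H` centralises `Q`
  have hHC : ∀ k ∈ H, ∀ a ∈ (Q : Subgroup L), k * a * k⁻¹ = a :=
    centralizes_of_indecomposable Q.isPGroup' hQc hQH hHN
      (fun h => Q.not_dvd_index (h.trans (relIndex_dvd_index_of_le hQH))) le_rfl hHnorm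
      (fun k hk => hk.2) hZQ ha₀ ha₀Z hprodZ
  -- an element moving a coset
  obtain ⟨k₀, hk₀, hk₀odd, hk₀H⟩ : ∃ k ∈ N, Odd (orderOf k) ∧ k ∉ H := by
    by_contra hc
    push Not at hc
    have hall : N ≤ H := fun n hn => by
      obtain ⟨q, hq, k, hk, ho, rfl⟩ := exists_decomp hn
      exact mul_mem (hQH hq) (hc k hk ho)
    exact ha₀Z (hgen Z (fun n hn a ha => (hall hn).2 a ha) ha₀)
  have hZconj : ∀ n ∈ N, ∀ a, a ∉ Z → n * a * n⁻¹ ∉ Z := fun n hn a ha h => ha (by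
    have := hZN n⁻¹ (inv_mem hn) _ h
    rwa [show n⁻¹ * (n * a * n⁻¹) * n⁻¹⁻¹ = a by group] at this)
  have hcos : ∀ a ∈ (Q : Subgroup L), ∀ b ∈ (Q : Subgroup L), a * b⁻¹ ∈ Z ↔ b⁻¹ * a ∈ Z := fun a ha b hb => by
    rw [hQc a ha b⁻¹ ((Q : Subgroup L).inv_mem hb)]
  -- an element of odd order fixing a coset fixes all
  have hodd : ∀ k ∈ N, Odd (orderOf k) → ∀ a ∈ (Q : Subgroup L), a ∉ Z →
      a⁻¹ * (k * a * k⁻¹) ∈ Z → k ∈ H := fun k hk ho a ha haZ hka =>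
    ⟨hk, fixes_all_of_fixes_one hQc hZN hthird hk ho ha haZ hka⟩
  set a₁ := k₀ * a₀ * k₀⁻¹ with ha₁'
  set a₂ := k₀ * a₁ * k₀⁻¹ with ha₂'
  have ha₁ : a₁ ∈ (Q : Subgroup L) := conj_pow_mem hk₀ ha₀
  have ha₂ : a₂ ∈ (Q : Subgroup L) := conj_pow_mem hk₀ ha₁
  have ha₁Z := hZconj k₀ hk₀ a₀ ha₀Z
  have ha₂Z := hZconj k₀ hk₀ a₁ ha₁Z
  have hd01 : a₀ * a₁⁻¹ ∉ Z := fun h => hk₀H (hodd k₀ hk₀ hk₀odd a₀ ha₀ ha₀Z (by
    rw [hcos _ ha₀ _ ha₁] at h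
    have h' := inv_mem h
    rwa [mul_inv_rev, inv_inv] at h'))
  have hd12 : a₁ * a₂⁻¹ ∉ Z := fun h => hk₀H (hodd k₀ hk₀ hk₀odd a₁ ha₁ ha₁Z (by
    rw [hcos _ ha₁ _ ha₂] at h
    have h' := inv_mem h
    rwa [mul_inv_rev, inv_inv] at h'))
  have hd02 : a₀ * a₂⁻¹ ∉ Z := fun h => hk₀H (by
    obtain ⟨j, hj⟩ := hk₀odd
    have hk1 : k₀ = ((k₀ * k₀) ^ j)⁻¹ := by
      refine eq_inv_of_mul_eq_one_left ?_
      rw [← pow_two, ← pow_mul, ← pow_succ', ← hj, pow_orderOf_eq_one]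
    have hkk : k₀ * k₀ ∈ H := by
      refine hodd (k₀ * k₀) (mul_mem hk₀ hk₀) ?_ a₀ ha₀ ha₀Z ?_
      · rw [← pow_two]
        exact Odd.of_dvd_nat ⟨j, hj⟩ (orderOf_pow_dvd _)
      · rw [hcos _ ha₀ _ ha₂] at h
        have h' := inv_mem h
        have e : k₀ * k₀ * a₀ * (k₀ * k₀)⁻¹ = a₂ := by rw [ha₂', ha₁']; group
        rw [e]
        rwa [mul_inv_rev, inv_inv] at h'
    rw [hk1]
    exact inv_mem (pow_mem hkk j))
  -- every element of `N` is congruent to a power of `k₀`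
  have hpow : ∀ n ∈ N, ∃ i : ℕ, (k₀ ^ i)⁻¹ * n ∈ H := by
    intro n hn
    obtain ⟨q, hq, k, hk, ho, rfl⟩ := exists_decomp hn
    suffices hk' : ∃ i : ℕ, (k₀ ^ i)⁻¹ * k ∈ H by
      obtain ⟨i, hi⟩ := hk'
      refine ⟨i, ?_⟩
      rw [show (k₀ ^ i)⁻¹ * (q * k) = (k₀ ^ i)⁻¹ * q * (k₀ ^ i) * ((k₀ ^ i)⁻¹ * k) by group]
      refine mul_mem ?_ hi
      have := hHnorm (k₀ ^ i)⁻¹ (inv_mem (pow_mem hk₀ i)) q (hQH hq)
      rwa [inv_inv] at this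
    have hka := conj_pow_mem hk ha₀
    have hkaZ := hZconj k hk a₀ ha₀Z
    -- `k a₀` lies in one of the three cosets
    obtain ⟨i, hi⟩ : ∃ i : ℕ, (k₀ ^ i * a₀ * (k₀ ^ i)⁻¹)⁻¹ * (k * a₀ * k⁻¹) ∈ Z := by
      by_contra hne
      push Not at hne
      have e0 := hne 0
      have e1 := hne 1
      have e2 := hne 2
      simp only [pow_zero, pow_one, pow_two, inv_one, one_mul, mul_one] at e0 e1 e2
      rw [show k₀ * k₀ * a₀ * (k₀ * k₀)⁻¹ = a₂ by rw [ha₂', ha₁']; group] at e2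
      apply e2
      have h1 := hthird a₀ ha₀ ha₀Z a₁ ha₁ ha₁Z _ hka hkaZ hd01
        (fun h => e0 (by rw [hcos _ ha₀ _ hka] at h; have h' := inv_mem h; rwa [mul_inv_rev, inv_inv] at h'))
        (fun h => e1 (by rw [hcos _ ha₁ _ hka] at h; have h' := inv_mem h; rwa [mul_inv_rev, inv_inv] at h'))
      have h2 := hthird a₀ ha₀ ha₀Z a₁ ha₁ ha₁Z a₂ ha₂ ha₂Z hd01 hd02 hd12
      have := mul_mem (inv_mem h2) h1
      rwa [show (a₀ * a₁ * a₂)⁻¹ * (a₀ * a₁ * (k * a₀ * k⁻¹)) = a₂⁻¹ * (k * a₀ * k⁻¹) by group] at this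
    refine ⟨i, ?_⟩
    set n' := (k₀ ^ i)⁻¹ * k with hn'
    have hn'N : n' ∈ N := mul_mem (inv_mem (pow_mem hk₀ i)) hk
    have hn'a : a₀⁻¹ * (n' * a₀ * n'⁻¹) ∈ Z := by
      have := hZN (k₀ ^ i)⁻¹ (inv_mem (pow_mem hk₀ i)) _ hi
      rwa [show (k₀ ^ i)⁻¹ * ((k₀ ^ i * a₀ * (k₀ ^ i)⁻¹)⁻¹ * (k * a₀ * k⁻¹)) * (k₀ ^ i)⁻¹⁻¹
        = a₀⁻¹ * (n' * a₀ * n'⁻¹) by rw [hn']; group] at this
    obtain ⟨q', hq', k', hk', ho', he⟩ := exists_decomp hn'N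
    rw [he] at hn'a ⊢
    refine mul_mem (hQH hq') (hodd k' hk' ho' a₀ ha₀ ha₀Z ?_)
    have h1 : q' * k' * a₀ * (q' * k')⁻¹ = k' * a₀ * k'⁻¹ := by
      have hm := conj_pow_mem hk' ha₀
      rw [show q' * k' * a₀ * (q' * k')⁻¹ = q' * (k' * a₀ * k'⁻¹) * q'⁻¹ by group,
        hQc q' hq' _ hm, mul_inv_cancel_right]
    rwa [h1] at hn'a
  have hk3 : k₀ * (k₀ * k₀) ∈ H := by
    obtain ⟨j, hj⟩ := hk₀odd
    refine hodd _ (mul_mem hk₀ (mul_mem hk₀ hk₀)) ?_ a₀ ha₀ ha₀Z ?_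
    · rw [← pow_two, ← pow_succ']
      exact Odd.of_dvd_nat ⟨j, hj⟩ (orderOf_pow_dvd _)
    · have h1 := hthird a₀ ha₀ ha₀Z a₁ ha₁ ha₁Z a₂ ha₂ ha₂Z hd01 hd02 hd12
      have h2 := mul_mem (inv_mem h1) (hZN k₀ hk₀ _ h1)
      have hc2 : k₀ * a₂ * k₀⁻¹ ∈ (Q : Subgroup L) := conj_pow_mem hk₀ ha₂
      rwa [show (a₀ * a₁ * a₂)⁻¹ * (k₀ * (a₀ * a₁ * a₂) * k₀⁻¹)
          = a₀⁻¹ * (k₀ * (k₀ * k₀) * a₀ * (k₀ * (k₀ * k₀))⁻¹) by
        have e : k₀ * (a₀ * a₁ * a₂) * k₀⁻¹ = a₁ * a₂ * (k₀ * a₂ * k₀⁻¹) := by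
          rw [ha₂', ha₁']; group
        have e' : k₀ * (k₀ * k₀) * a₀ * (k₀ * (k₀ * k₀))⁻¹ = k₀ * a₂ * k₀⁻¹ := by
          rw [ha₂', ha₁']; group
        rw [e, e', show a₀ * a₁ * a₂ = a₁ * a₂ * a₀ by
          rw [mul_assoc, hQc a₀ ha₀ _ ((Q : Subgroup L).mul_mem ha₁ ha₂)]]
        group] at h2
  -- the module structure
  letI : CommGroup (Q : Subgroup L) :=
    { (inferInstance : Group (Q : Subgroup L)) with mul_comm := fun a b => Subtype.ext (hQc a a.2 b b.2) }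
  let τ : (Q : Subgroup L) →* (Q : Subgroup L) :=
    MonoidHom.mk' (fun a => ⟨k₀ * a * k₀⁻¹, conj_pow_mem hk₀ a.2⟩) fun a b =>
      Subtype.ext (by simp [mul_assoc])
  have hτv : ∀ a : (Q : Subgroup L), (τ a : L) = k₀ * a * k₀⁻¹ := fun _ => rfl
  have hτ3 : ∀ a, τ (τ (τ a)) = a := fun a => Subtype.ext (by
    have h1 := hHC _ hk3 a a.2
    rw [hτv, hτv, hτv]
    conv_rhs => rw [← h1]
    group)
  have hNτ : ∀ n ∈ N, ∀ (S : Subgroup (Q : Subgroup L)), (∀ a ∈ S, τ a ∈ S) →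
      ∀ a ∈ S.map (Q : Subgroup L).subtype, n * a * n⁻¹ ∈ S.map (Q : Subgroup L).subtype := by
    intro n hn S hS a ha
    obtain ⟨i, hi⟩ := hpow n hn
    obtain ⟨b, hb, rfl⟩ := ha
    have hpw : ∀ i : ℕ, ∃ b' ∈ S, (b' : L) = k₀ ^ i * (b : L) * (k₀ ^ i)⁻¹ := by
      intro i
      induction i with
      | zero => exact ⟨b, hb, by simp⟩
      | succ i ih =>
        obtain ⟨b', hb', e⟩ := ih
        exact ⟨τ b', hS b' hb', by rw [hτv, e, pow_succ']; group⟩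
    obtain ⟨b', hb', e⟩ := hpw i
    refine ⟨b', hb', ?_⟩
    have h1 := hHC _ hi b b.2
    show (b' : L) = n * (b : L) * n⁻¹
    rw [e]
    conv_lhs => rw [← h1]
    group
  have hψ : ∀ a, a * τ a * τ (τ a) = 1 := by
    let ψ : (Q : Subgroup L) →* (Q : Subgroup L) :=
      MonoidHom.mk' (fun a => a * τ a * τ (τ a)) fun a b => by
        rw [map_mul, map_mul, mul_mul_mul_comm a b, mul_mul_mul_comm (a * τ a) (b * τ b)]
    have hψτ : ∀ a, ψ (τ a) = ψ a := fun a => by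
      show τ a * τ (τ a) * τ (τ (τ a)) = a * τ a * τ (τ a)
      rw [hτ3, mul_comm (τ a * τ (τ a)) a, mul_assoc]
    have hle : (Q : Subgroup L) ≤ ψ.ker.map (Q : Subgroup L).subtype := by
      refine hgen _ fun n hn a ha => ?_
      obtain ⟨i, hi⟩ := hpow n hn
      refine ⟨⟨a, ha⟩⁻¹ * ⟨n * a * n⁻¹, conj_pow_mem hn ha⟩, ?_, rfl⟩
      have hpw : ∀ i : ℕ, ∃ b : (Q : Subgroup L), ψ b = ψ ⟨a, ha⟩ ∧ (b : L) = k₀ ^ i * a * (k₀ ^ i)⁻¹ := by
        intro i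
        induction i with
        | zero => exact ⟨⟨a, ha⟩, rfl, by simp⟩
        | succ i ih =>
          obtain ⟨b, hb, e⟩ := ih
          exact ⟨τ b, (hψτ b).trans hb, by rw [hτv, e, pow_succ']; group⟩
      obtain ⟨b, hb, e⟩ := hpw i
      have h1 := hHC _ hi a ha
      have hbn : b = ⟨n * a * n⁻¹, conj_pow_mem hn ha⟩ := Subtype.ext (by
        show (b : L) = n * a * n⁻¹
        rw [e]
        conv_lhs => rw [← h1]
        group)
      show ψ _ = 1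
      rw [map_mul, map_inv, ← hbn, hb, inv_mul_cancel]
    intro a
    obtain ⟨b, hb, e⟩ := hle a.2
    obtain rfl : b = a := Subtype.ext e
    exact hb
  haveI : Nontrivial (Q : Subgroup L) := ⟨⟨⟨a₀, ha₀⟩, 1, fun h => ha₀Z (by
    rw [show a₀ = 1 from congrArg Subtype.val h]; exact one_mem Z)⟩⟩
  obtain ⟨m, hm, ⟨e⟩⟩ := homocyclic_of_indecomposable Q.isPGroup' τ hψ fun S₁ S₂ h1 h2 hd hs => by
    rcases hprodZ _ _ (map_subtype_le S₁) (map_subtype_le S₂) (fun n hn => hNτ n hn S₁ h1)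
      (fun n hn => hNτ n hn S₂ h2)
      (by rw [← map_inf _ _ _ (Q : Subgroup L).subtype_injective, hd, Subgroup.map_bot])
      (by rw [← Subgroup.map_sup, hs, ← MonoidHom.range_eq_map, range_subtype]) with h | h
    · exact Or.inl ((map_eq_bot_iff_of_injective _ (Q : Subgroup L).subtype_injective).1 h)
    · exact Or.inr ((map_eq_bot_iff_of_injective _ (Q : Subgroup L).subtype_injective).1 h)
  rcases Nat.lt_or_ge m 2 with h | h
  · obtain rfl : m = 1 := by omega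
    haveI : IsKleinFour (Q : Subgroup L) :=
      { card_four := by rw [Nat.card_congr e.toEquiv]; simp
        exponent_two := by
          refine Monoid.exponent_eq_prime_iff Nat.prime_two |>.2 fun g hg => ?_
          refine orderOf_eq_prime ?_ hg
          apply e.injective
          rw [map_pow, map_one]
          generalize e g = w
          revert w
          decide +revert }
    exact IsKleinFour.nonempty_mulEquiv
  · exfalso
    obtain ⟨hn, -, -⟩ := Cfsg.Agent.S0949.result Q m h e hoddbot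
    rcases IsSimpleGroup.eq_bot_or_eq_top_of_normal _ hn with h' | h'
    · exact ha₀Z (by rw [h', mem_bot] at ha₀; exact ha₀ ▸ one_mem Z)
    · exact hna ⟨⟨fun a b => hQc a (h' ▸ mem_top a) b (h' ▸ mem_top b)⟩⟩

end CfsgLib.QuarterCenter
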