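import Cfsg.Agent.AlperinGoldschmidt.Basic
import Cfsg.Agent.Transfer.Fusion

/-!
# Sylow 2-subgroups with centre of index four

`Quarter P c`: the 2-group `P` has centre of index four and derived subgroup `⟨c⟩` of order two.
The abelian maximal subgroups are the centralisers `amax P x` of the non-central elements.
-/

set_option autoImplicit false
set_option maxHeartbeats 400000

namespace CfsgLib.QuarterCenter

open Subgroup

variable {G : Type*} [Group G]

/-- The centre of `P` as a subgroup of `G`. -/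
def cen (P : Subgroup G) : Subgroup G := P ⊓ centralizer (P : Set G)

/-- The centraliser of `x` in `P`. -/
def amax (P : Subgroup G) (x : G) : Subgroup G := P ⊓ centralizer ({x} : Set G)

theorem mem_cen {P : Subgroup G} {x : G} : x ∈ cen P ↔ x ∈ P ∧ ∀ y ∈ P, y * x = x * y :=
  Iff.and Iff.rfl mem_centralizer_iff

theorem mem_amax {P : Subgroup G} {x m : G} : m ∈ amax P x ↔ m ∈ P ∧ m * x = x * m :=
  Iff.and Iff.rfl mem_centralizer_singleton_iff

theorem cen_le_amax {P : Subgroup G} {x : G} (hx : x ∈ P) : cen P ≤ amax P x := fun _ hz =>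
  mem_amax.2 ⟨hz.1, ((mem_cen.1 hz).2 x hx).symm⟩

theorem self_mem_amax {P : Subgroup G} {x : G} (hx : x ∈ P) : x ∈ amax P x :=
  mem_amax.2 ⟨hx, rfl⟩

/-- The data attached to a 2-group with centre of index four. -/
structure Quarter (P : Subgroup G) (c : G) : Prop where
  mem_cen : c ∈ cen P
  ne_one : c ≠ 1
  mul_self : c * c = 1
  sq : ∀ x ∈ P, x * x ∈ cen P
  comm : ∀ x ∈ P, x ∉ cen P → ∀ y ∈ P, y ∉ cen P → x * y⁻¹ ∉ cen P → x * y = c * (y * x)
  third : ∀ x ∈ P, x ∉ cen P → ∀ y ∈ P, y ∉ cen P → ∀ w ∈ P, w ∉ cen P →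
    x * y⁻¹ ∉ cen P → x * w⁻¹ ∉ cen P → y * w⁻¹ ∉ cen P → x * y * w ∈ cen P
  exists_pair : ∃ x ∈ P, x ∉ cen P ∧ ∃ y ∈ P, y ∉ cen P ∧ x * y⁻¹ ∉ cen P

theorem map_center_eq_cen (P : Subgroup G) : (center P).map P.subtype = cen P := by
  ext x
  constructor
  · rintro ⟨z, hz, rfl⟩
    exact mem_cen.2 ⟨z.2, fun y hy => congrArg Subtype.val (mem_center_iff.1 hz ⟨y, hy⟩)⟩
  · intro hx
    exact ⟨⟨x, hx.1⟩, mem_center_iff.2 fun y => Subtype.ext ((mem_cen.1 hx).2 y y.2), rfl⟩

theorem exists_quarter {P : Subgroup G} (hna : ¬ IsMulCommutative P)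
    (hZ : (center P).index = 4) : ∃ c, Quarter P c := by
  set Q := P ⧸ center P
  have hQ : Nat.card Q = 4 := by rw [← index_eq_card]; exact hZ
  haveI : Finite Q := Nat.finite_of_card_ne_zero (by rw [hQ]; norm_num)
  have hexp : ∀ q : Q, q * q = 1 := by
    intro q
    by_contra hq
    have h4 : orderOf q ∣ 2 ^ 2 := by
      rw [show (2 : ℕ) ^ 2 = Nat.card Q by rw [hQ]; norm_num]; exact orderOf_dvd_natCard q
    obtain ⟨j, hj, hj'⟩ := (Nat.dvd_prime_pow Nat.prime_two).1 h4
    have h0 := pow_orderOf_eq_one q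
    interval_cases j
    · rw [hj', pow_zero, pow_one] at h0
      exact hq (by rw [h0, one_mul])
    · rw [hj', pow_one, pow_two] at h0
      exact hq h0
    · haveI : IsCyclic Q := isCyclic_of_orderOf_eq_card q (by rw [hj', hQ]; norm_num)
      exact hna ⟨⟨fun a b => commutative_of_cyclic_center_quotient (QuotientGroup.mk' (center P))
        (QuotientGroup.ker_mk' _).le a b⟩⟩
  have hinv : ∀ q : Q, q⁻¹ = q := fun q => inv_eq_of_mul_eq_one_right (hexp q)
  have hcommQ : ∀ q r : Q, q * r = r * q := fun q r => by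
    calc q * r = (q * r)⁻¹ := (hinv _).symm
      _ = r * q := by rw [mul_inv_rev, hinv, hinv]
  -- translate to membership in the centre
  have hmk : ∀ (x : G) (hx : x ∈ P), ((⟨x, hx⟩ : P) : Q) = 1 ↔ x ∈ cen P := by
    intro x hx
    rw [QuotientGroup.eq_one_iff, ← map_center_eq_cen]
    exact ⟨fun h => ⟨_, h, rfl⟩, fun ⟨z, hz, he⟩ => by
      rwa [show (⟨x, hx⟩ : P) = z from Subtype.ext he.symm]⟩
  have hquot : ∀ (x : G) (hx : x ∈ P) (y : G) (hy : y ∈ P),
      ((⟨x, hx⟩ : P) : Q) = ((⟨y, hy⟩ : P) : Q) ↔ x * y⁻¹ ∈ cen P := by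
    intro x hx y hy
    rw [← hmk _ (P.mul_mem hx (P.inv_mem hy)), ← mul_inv_eq_one]
    rfl
  -- four classes
  have hfour : ∀ q r : Q, q ≠ 1 → r ≠ 1 → q ≠ r → ∀ s : Q, s = 1 ∨ s = q ∨ s = r ∨ s = q * r := by
    classical
    intro q r hq hr hqr s
    by_contra h
    push Not at h
    haveI : Fintype Q := Fintype.ofFinite Q
    have h5 : ({s, 1, q, r, q * r} : Finset Q).card = 5 := by
      have hqr1 : q * r ≠ 1 := fun e => hqr (by rw [← hinv r]; exact eq_inv_of_mul_eq_one_left e)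
      rw [Finset.card_insert_of_notMem, Finset.card_insert_of_notMem,
        Finset.card_insert_of_notMem, Finset.card_insert_of_notMem, Finset.card_singleton]
      · simpa using fun e : r = q * r => hq (by simpa using e.symm)
      · simp only [Finset.mem_insert, Finset.mem_singleton, not_or]
        exact ⟨hqr, fun e => hr (by simpa using e.symm)⟩
      · simp only [Finset.mem_insert, Finset.mem_singleton, not_or]
        exact ⟨Ne.symm hq, Ne.symm hr, Ne.symm hqr1⟩
      · simp only [Finset.mem_insert, Finset.mem_singleton, not_or]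
        exact ⟨h.1, h.2.1, h.2.2.1, h.2.2.2⟩
    have hle := Finset.card_le_univ ({s, 1, q, r, q * r} : Finset Q)
    rw [h5, ← Nat.card_eq_fintype_card, hQ] at hle
    omega
  -- a non-commuting pair
  obtain ⟨a, ha, b, hb, hab⟩ : ∃ a ∈ P, ∃ b ∈ P, a * b ≠ b * a := by
    by_contra h
    push Not at h
    exact hna ⟨⟨fun x y => Subtype.ext (h x x.2 y y.2)⟩⟩
  have haZ : a ∉ cen P := fun h => hab ((mem_cen.1 h).2 b hb).symm
  have hbZ : b ∉ cen P := fun h => hab ((mem_cen.1 h).2 a ha)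
  have habZ : a * b⁻¹ ∉ cen P := by
    intro h
    apply hab
    have h1 := (mem_cen.1 h).2 b hb
    calc a * b = (a * b⁻¹ * b) * b := by group
      _ = (b * (a * b⁻¹)) * b := by rw [h1]
      _ = b * a := by group
  -- the commutator
  have hk : ∀ x ∈ P, ∀ y ∈ P, x * y * x⁻¹ * y⁻¹ ∈ cen P := by
    intro x hx y hy
    rw [← hmk _ (P.mul_mem (P.mul_mem (P.mul_mem hx hy) (P.inv_mem hx)) (P.inv_mem hy))]
    show ((⟨x, hx⟩ : P) : Q) * ((⟨y, hy⟩ : P) : Q) * ((⟨x, hx⟩ : P) : Q)⁻¹
      * ((⟨y, hy⟩ : P) : Q)⁻¹ = 1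
    rw [hcommQ ((⟨x, hx⟩ : P) : Q)]
    group
  set c := a * b * a⁻¹ * b⁻¹ with hc
  have hcZ : c ∈ cen P := hk a ha b hb
  have hc_comm : ∀ y ∈ P, y * c = c * y := (mem_cen.1 hcZ).2
  have hab' : a * b = c * (b * a) := by rw [hc]; group
  have hba : b * a = c⁻¹ * (a * b) := by rw [hab', inv_mul_cancel_left]
  have hc2 : c * c = 1 := by
    have ha2 : a * a ∈ cen P := by
      rw [← hmk _ (P.mul_mem ha ha)]; exact hexp ((⟨a, ha⟩ : P) : Q)
    have h1 : a * a * b = b * (a * a) := ((mem_cen.1 ha2).2 b hb).symm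
    have h2 : a * a * b = c * c * (b * (a * a)) := by
      calc a * a * b = a * (a * b) := mul_assoc _ _ _
        _ = (a * c) * (b * a) := by rw [hab', ← mul_assoc]
        _ = (c * a) * (b * a) := by rw [hc_comm a ha]
        _ = c * (a * b) * a := by group
        _ = c * (c * (b * a)) * a := by rw [hab']
        _ = c * c * (b * (a * a)) := by group
    rw [← h1] at h2
    exact mul_eq_right.1 h2.symm
  have hci : c⁻¹ = c := inv_eq_of_mul_eq_one_right hc2
  -- coset representatives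
  have hrep : ∀ x ∈ P, x ∉ cen P → ∃ z ∈ cen P, ∃ u, (u = a ∨ u = b ∨ u = a * b) ∧ x = z * u := by
    intro x hx hxZ
    have key : ∀ u (hu : u ∈ P), ((⟨x, hx⟩ : P) : Q) = ((⟨u, hu⟩ : P) : Q) →
        x * u⁻¹ ∈ cen P ∧ x = x * u⁻¹ * u := fun u hu h => ⟨(hquot x hx u hu).1 h, by group⟩
    rcases hfour _ _ (mt (hmk a ha).1 haZ) (mt (hmk b hb).1 hbZ) (mt (hquot a ha b hb).1 habZ)
      ((⟨x, hx⟩ : P) : Q) with h | h | h | h
    · exact absurd ((hmk x hx).1 h) hxZ
    · exact ⟨_, (key a ha h).1, a, Or.inl rfl, (key a ha h).2⟩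
    · exact ⟨_, (key b hb h).1, b, Or.inr (Or.inl rfl), (key b hb h).2⟩
    · exact ⟨_, (key (a * b) (P.mul_mem ha hb) h).1, a * b, Or.inr (Or.inr rfl),
        (key (a * b) (P.mul_mem ha hb) h).2⟩
  refine ⟨c, hcZ, fun h => hab (by rw [hab', h, one_mul]), hc2, fun x hx => ?_, ?_, ?_,
    a, ha, haZ, b, hb, hbZ, habZ⟩
  · rw [← hmk _ (P.mul_mem hx hx)]; exact hexp ((⟨x, hx⟩ : P) : Q)
  · intro x hx hxZ y hy hyZ hxy
    obtain ⟨z, hz, u, hu, rfl⟩ := hrep x hx hxZ
    obtain ⟨w, hw, v, hv, rfl⟩ := hrep y hy hyZ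
    have huv : u ≠ v := by
      rintro rfl
      apply hxy
      rw [show z * u * (w * u)⁻¹ = z * w⁻¹ by group]
      exact mul_mem hz (inv_mem hw)
    have huP : u ∈ P := by
      rcases hu with e | e | e <;> rw [e] <;> [exact ha; exact hb; exact P.mul_mem ha hb]
    have hvP : v ∈ P := by
      rcases hv with e | e | e <;> rw [e] <;> [exact ha; exact hb; exact P.mul_mem ha hb]
    suffices h : u * v = c * (v * u) by
      calc z * u * (w * v) = z * (u * w) * v := by group
        _ = z * (w * u) * v := by rw [(mem_cen.1 hw).2 u huP]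
        _ = (z * w) * (u * v) := by group
        _ = (z * w) * (c * (v * u)) := by rw [h]
        _ = (w * z) * (c * (v * u)) := by rw [(mem_cen.1 hw).2 z hz.1]
        _ = c * ((w * z) * (v * u)) := by rw [← mul_assoc, hc_comm _ (P.mul_mem hw.1 hz.1), mul_assoc]
        _ = c * (w * (z * v) * u) := by group
        _ = c * (w * (v * z) * u) := by rw [(mem_cen.1 hz).2 v hvP]
        _ = c * (w * v * (z * u)) := by group
    have hca := hc_comm a ha
    have hcb := hc_comm b hb
    have hba' : b * a = c * (a * b) := by rw [hba, hci]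
    rcases hu with e | e | e <;> rcases hv with e' | e' | e' <;> rw [e, e'] at huv ⊢ <;>
      first
        | exact absurd rfl huv
        | exact hab'
        | exact hba'
        | (calc a * (a * b) = a * (c * (b * a)) := by rw [hab']
             _ = (a * c) * (b * a) := by group
             _ = (c * a) * (b * a) := by rw [hca]
             _ = c * (a * b * a) := by group)
        | (calc b * (a * b) = (b * a) * b := by group
             _ = (c * (a * b)) * b := by rw [hba']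
             _ = c * (a * b * b) := by group)
        | (calc a * b * a = a * (b * a) := by group
             _ = a * (c * (a * b)) := by rw [hba']
             _ = (a * c) * (a * b) := by group
             _ = (c * a) * (a * b) := by rw [hca]
             _ = c * (a * (a * b)) := by group)
        | (calc a * b * b = (c * (b * a)) * b := by rw [hab']
             _ = c * (b * (a * b)) := by group)
  · intro x hx hxZ y hy hyZ w hw hwZ hxy hxw hyw
    rw [← hmk _ (P.mul_mem (P.mul_mem hx hy) hw)]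
    show ((⟨x, hx⟩ : P) : Q) * ((⟨y, hy⟩ : P) : Q) * ((⟨w, hw⟩ : P) : Q) = 1
    rcases hfour _ _ (mt (hmk x hx).1 hxZ) (mt (hmk y hy).1 hyZ) (mt (hquot x hx y hy).1 hxy)
      ((⟨w, hw⟩ : P) : Q) with h | h | h | h
    · exact absurd ((hmk w hw).1 h) hwZ
    · exact absurd ((hquot x hx w hw).1 h.symm) hxw
    · exact absurd ((hquot y hy w hw).1 h.symm) hyw
    · rw [h]; exact hexp _

namespace Quarter

variable {P : Subgroup G} {c : G}

theorem comm_all (h : Quarter P c) {x y : G} (hx : x ∈ P) (hy : y ∈ P) :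
    x * y = y * x ∨ x * y = c * (y * x) := by
  by_cases hxZ : x ∈ cen P
  · exact Or.inl ((QuarterCenter.mem_cen.1 hxZ).2 y hy).symm
  by_cases hyZ : y ∈ cen P
  · exact Or.inl ((QuarterCenter.mem_cen.1 hyZ).2 x hx)
  by_cases hxy : x * y⁻¹ ∈ cen P
  · left
    have h1 := (QuarterCenter.mem_cen.1 hxy).2 y hy
    calc x * y = (x * y⁻¹ * y) * y := by group
      _ = (y * (x * y⁻¹)) * y := by rw [h1]
      _ = y * x := by group
  · exact Or.inr (h.comm x hx hxZ y hy hyZ hxy)

theorem inv_eq (h : Quarter P c) : c⁻¹ = c := inv_eq_of_mul_eq_one_right h.mul_self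

theorem mem (h : Quarter P c) : c ∈ P := h.mem_cen.1

theorem commute_c (h : Quarter P c) {y : G} (hy : y ∈ P) : y * c = c * y :=
  (QuarterCenter.mem_cen.1 h.mem_cen).2 y hy

/-- Commuting non-central elements lie in the same coset of the centre. -/
theorem coset_of_commute (h : Quarter P c) {x y : G} (hx : x ∈ P) (hxZ : x ∉ cen P) (hy : y ∈ P)
    (hyZ : y ∉ cen P) (hc : x * y = y * x) : x * y⁻¹ ∈ cen P := by
  by_contra hxy
  have := h.comm x hx hxZ y hy hyZ hxy
  rw [hc] at this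
  exact h.ne_one (mul_eq_right.1 this.symm)

theorem amax_comm (h : Quarter P c) {x : G} (hx : x ∈ P) (hxZ : x ∉ cen P) {m n : G}
    (hm : m ∈ amax P x) (hn : n ∈ amax P x) : m * n = n * m := by
  by_cases hmZ : m ∈ cen P
  · exact ((QuarterCenter.mem_cen.1 hmZ).2 n hn.1).symm
  have hz := h.coset_of_commute hm.1 hmZ hx hxZ (mem_amax.1 hm).2
  have h1 := (QuarterCenter.mem_cen.1 hz).2 n hn.1
  calc m * n = (m * x⁻¹) * (x * n) := by group
    _ = (m * x⁻¹) * (n * x) := by rw [(mem_amax.1 hn).2]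
    _ = ((m * x⁻¹) * n) * x := by group
    _ = (n * (m * x⁻¹)) * x := by rw [h1]
    _ = n * m := by group

theorem amax_le_amax (h : Quarter P c) {x y : G} (hx : x ∈ P) (hxZ : x ∉ cen P)
    (hy : y ∈ amax P x) : amax P x ≤ amax P y := fun m hm =>
  mem_amax.2 ⟨hm.1, h.amax_comm hx hxZ hm hy⟩

theorem amax_eq (h : Quarter P c) {x y : G} (hx : x ∈ P) (hxZ : x ∉ cen P)
    (hy : y ∈ amax P x) (hyZ : y ∉ cen P) : amax P y = amax P x :=
  le_antisymm (h.amax_le_amax hy.1 hyZ (mem_amax.2 ⟨hx, ((mem_amax.1 hy).2).symm⟩))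
    (h.amax_le_amax hx hxZ hy)

/-- Every element of `P` lies in one of three given maximal abelian subgroups. -/
theorem mem_of_not_mem (h : Quarter P c) {x y w : G} (hx : x ∈ P) (hxZ : x ∉ cen P) (hy : y ∈ P)
    (hyx : y ∉ amax P x) (hw : w ∈ P) (hwx : w ∉ amax P x) (hwy : w ∉ amax P y) :
    x * y * w ∈ cen P := by
  have hyZ : y ∉ cen P := fun hz => hyx (cen_le_amax hx hz)
  have hwZ : w ∉ cen P := fun hz => hwx (cen_le_amax hx hz)
  have key : ∀ u v : G, u ∈ P → v ∈ P → v ∉ amax P u → u * v⁻¹ ∉ cen P := by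
    intro u v hu hv hvu hz
    apply hvu
    refine mem_amax.2 ⟨hv, ?_⟩
    have h1 := (QuarterCenter.mem_cen.1 hz).2 v hv
    calc v * u = (v * (u * v⁻¹)) * v := by group
      _ = (u * v⁻¹ * v) * v := by rw [h1]
      _ = u * v := by group
  exact h.third x hx hxZ y hy hyZ w hw hwZ (key x y hx hy hyx) (key x w hx hw hwx)
    (key y w hy hw hwy)

theorem exists_notMem_amax (h : Quarter P c) {x : G} (hx : x ∈ P) (hxZ : x ∉ cen P) :
    ∃ y ∈ P, y ∉ amax P x := by
  obtain ⟨a, ha, haZ, b, hb, hbZ, hab⟩ := h.exists_pair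
  by_cases hax : a ∈ amax P x
  · refine ⟨b, hb, fun hbx => hab (h.coset_of_commute ha haZ hb hbZ ?_)⟩
    exact h.amax_comm hx hxZ hax hbx
  · exact ⟨a, ha, hax⟩

/-- An element outside `amax P x` acts on it as the transvection with centre `c`. -/
theorem conj_amax (h : Quarter P c) {x p m : G} (hx : x ∈ P) (hp : p ∈ P)
    (hpx : p ∉ amax P x) (hm : m ∈ amax P x) (hmZ : m ∉ cen P) : p * m * p⁻¹ = c * m := by
  have hxZ : x ∉ cen P := fun hz => hmZ (by
    exfalso
    exact hpx (mem_amax.2 ⟨hp, (QuarterCenter.mem_cen.1 hz).2 p hp⟩))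
  rcases h.comm_all hp hm.1 with hc | hc
  · exfalso
    apply hpx
    rw [← h.amax_eq hx hxZ hm hmZ]
    exact mem_amax.2 ⟨hp, hc⟩
  · rw [hc]; group

theorem conj_cen (_ : Quarter P c) {p z : G} (hp : p ∈ P) (hz : z ∈ cen P) : p * z * p⁻¹ = z := by
  rw [(QuarterCenter.mem_cen.1 hz).2 p hp, mul_inv_cancel_right]

/-- The normalizer of `P` fixes `c`. -/
theorem conj_c (h : Quarter P c) {n : G} (hn : n ∈ normalizer (P : Set G)) : n * c * n⁻¹ = c := by
  obtain ⟨a, ha, haZ, b, hb, hbZ, hab⟩ := h.exists_pair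
  have hc := h.comm a ha haZ b hb hbZ hab
  have hc' : n * a * n⁻¹ * (n * b * n⁻¹) = n * c * n⁻¹ * (n * b * n⁻¹ * (n * a * n⁻¹)) := by
    rw [show n * a * n⁻¹ * (n * b * n⁻¹) = n * (a * b) * n⁻¹ by group, hc]; group
  rcases h.comm_all ((mem_normalizer_iff.1 hn a).1 ha) ((mem_normalizer_iff.1 hn b).1 hb) with h' | h'
  · exfalso
    rw [h'] at hc'
    exact h.ne_one (conj_eq_one_iff.1 (mul_eq_right.1 hc'.symm))
  · rw [h'] at hc'
    exact (mul_right_cancel hc').symm

end Quarter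

/-- Burnside: central elements conjugate in `G` are conjugate in the normalizer. -/
theorem exists_normalizer_conj [Finite G] (P : Sylow 2 G) {x g : G}
    (hx : x ∈ cen (P : Subgroup G)) (hy : g * x * g⁻¹ ∈ cen (P : Subgroup G)) :
    ∃ n ∈ normalizer ((P : Subgroup G) : Set G), n * x * n⁻¹ = g * x * g⁻¹ := by
  haveI : Fact (Nat.Prime 2) := ⟨Nat.prime_two⟩
  obtain ⟨n, hn, h⟩ := Transfer.exists_mem_normalizer_conj_of_weaklyClosed P
    (Transfer.isWeaklyClosed_self _) (X := {x}) (g := g)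
    (fun p hp => mem_centralizer_singleton_iff.2 ((mem_cen.1 hx).2 p hp))
    (fun p hp => by
      rw [Set.image_singleton]
      exact mem_centralizer_singleton_iff.2 ((mem_cen.1 hy).2 p hp))
  exact ⟨n, hn, h x rfl⟩

/-- A central element conjugate to `c` is `c`. -/
theorem eq_c_of_mem_cen [Finite G] {P : Sylow 2 G} {c g : G} (h : Quarter (P : Subgroup G) c)
    (hy : g * c * g⁻¹ ∈ cen (P : Subgroup G)) : g * c * g⁻¹ = c := by
  obtain ⟨n, hn, he⟩ := exists_normalizer_conj P h.mem_cen hy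
  rw [← he, h.conj_c hn]

end CfsgLib.QuarterCenter
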