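import Cfsg.Agent.QuarterCenter.Simple
import Cfsg.Agent.QuarterCenter.AbelianTop
import Cfsg.Agent.GW.Known
import Cfsg.Agent.AltCover.Main
import Cfsg.Prelude.Def_CaseTheorems

/-!
# Quasisimple groups whose Sylow 2-subgroup has centre of index four

Conditional on the classification of simple groups with dihedral Sylow 2-subgroups, given as a
hypothesis.
-/

set_option autoImplicit false
set_option maxHeartbeats 400000

namespace CfsgLib.QuarterCenter

open Subgroup
open scoped commutatorElement

universe u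

/-- The kernel of a perfect central cover of `A₇` of odd order is trivial or of order three. -/
theorem card_center_alt_seven {G : Type u} [Group G] [Finite G] (hperf : commutator G = ⊤)
    (hodd : Odd (Nat.card (center G))) (e : G ⧸ center G ≃* alternatingGroup (Fin 7)) :
    Nat.card (center G) = 1 ∨ Nat.card (center G) = 3 := by
  obtain ⟨n, ⟨ε⟩⟩ := Finite.exists_equiv_fin G
  haveI : Small.{0} G := Small.mk' ε
  haveI : Finite (Shrink.{0} G) := Finite.of_equiv G (equivShrink G)
  let E : Shrink.{0} G ≃* G := Shrink.mulEquiv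
  let σ : Shrink.{0} G →* alternatingGroup (Fin 7) :=
    e.toMonoidHom.comp ((QuotientGroup.mk' (center G)).comp E.toMonoidHom)
  have hker : σ.ker = (center G).comap E.toMonoidHom := by
    ext x
    show e (QuotientGroup.mk' (center G) (E x)) = 1 ↔ E x ∈ center G
    rw [MulEquiv.map_eq_one_iff, ← MonoidHom.mem_ker, QuotientGroup.ker_mk']
  have hσ : Cfsg.IsStemExtension σ := by
    refine ⟨(e.surjective.comp (QuotientGroup.mk'_surjective _)).comp E.surjective, ?_, ?_⟩
    · rw [hker]
      intro x hx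
      refine mem_center_iff.2 fun y => E.injective ?_
      rw [map_mul, map_mul]
      exact mem_center_iff.1 hx (E y)
    · intro x _
      have h1 : E x ∈ commutator G := hperf.symm ▸ mem_top (E x)
      have h2 : (commutator (Shrink.{0} G)).map E.toMonoidHom = commutator G := by
        rw [show commutator (Shrink.{0} G) = ⁅(⊤ : Subgroup (Shrink.{0} G)), ⊤⁆ from rfl, map_commutator,
          map_top_of_surjective _ E.surjective]
        rfl
      rw [← h2] at h1
      obtain ⟨x', hx', he⟩ := h1
      rwa [← E.injective he]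
  obtain ⟨ψ, hψ⟩ := (CfsgLib.AltCover.hasCyclicSchurMultiplier_alt_seven).2 (Shrink.{0} G) σ hσ
  have hd := Subgroup.card_dvd_of_surjective ψ hψ
  rw [hker, show Nat.card ((center G).comap E.toMonoidHom) = Nat.card (center G) from
    Nat.card_congr (E.subgroupMap ((center G).comap E.toMonoidHom) |>.trans
      (MulEquiv.subgroupCongr (map_comap_eq_self_of_surjective E.surjective _))).toEquiv,
    show Nat.card (Multiplicative (ZMod 6)) = 6 by simp] at hd
  have hle : Nat.card (center G) ≤ 6 := Nat.le_of_dvd (by norm_num) hd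
  obtain ⟨j, hj⟩ := hodd
  rw [hj] at hd hle ⊢
  have : j ≤ 2 := by omega
  interval_cases j
  · exact Or.inl rfl
  · exact Or.inr rfl
  · norm_num at hd

theorem alt_seven_sylow_card {L : Type*} [Group L] [Finite L] (S : Sylow 2 L)
    (e : L ≃* alternatingGroup (Fin 7)) : Nat.card (S : Subgroup L) = 8 := by
  haveI : Fact (Nat.Prime 2) := ⟨Nat.prime_two⟩
  rw [S.card_eq_multiplicity, Nat.card_congr e.toEquiv,
    CfsgLib.AltCover.card_alt 7 2520 (by norm_num) (by decide)]
  have : (2520 : ℕ).factorization 2 = 3 := by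
    rw [show (2520 : ℕ) = 2 ^ 3 * 315 by norm_num,
      Nat.factorization_mul (by norm_num) (by norm_num), Finsupp.add_apply,
      Nat.Prime.factorization_pow Nat.prime_two, Finsupp.single_eq_same,
      Nat.factorization_eq_zero_of_not_dvd (by norm_num : ¬ 2 ∣ 315), add_zero]
  rw [this]
  norm_num

/-- The theorem, given the simple dihedral classification. -/
theorem quasisimple_quarter {G : Type u} [Group G] [Finite G]
    (hGW : ∀ (L : Type u) [Group L] [Finite L], IsSimpleGroup L → ¬ IsMulCommutative L →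
      ∀ (S : Sylow 2 L) (n : ℕ), 2 ≤ n → Nonempty ((S : Subgroup L) ≃* DihedralGroup n) →
        GW.IsPSLOrAltSeven L)
    (hq : Cfsg.IsQuasisimple G) (P : Sylow 2 G) (hna : ¬ IsMulCommutative (P : Subgroup G))
    (hZ : (center (P : Subgroup G)).index = 4) :
    Nat.card (P : Subgroup G) = 8 ∧
      (Nonempty (G ≃* alternatingGroup (Fin 7)) ∨
       (Nat.card (center G) = 3 ∧ Nonempty (G ⧸ center G ≃* alternatingGroup (Fin 7))) ∨
       ∃ (F : Type) (_ : Field F) (_ : Fintype F), Odd (Fintype.card F) ∧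
         Nonempty (G ⧸ center G ≃* Matrix.ProjectiveSpecialLinearGroup (Fin 2) F)) := by
  haveI : Fact (Nat.Prime 2) := ⟨Nat.prime_two⟩
  obtain ⟨hperf, hsimple⟩ := hq
  haveI := hsimple
  have hcomm : commutator G = ⊤ := hperf.commutator_eq_top
  set π := QuotientGroup.mk' (center G) with hπ
  have hπsurj : Function.Surjective π := QuotientGroup.mk'_surjective _
  have hπ1 : ∀ x, π x = 1 ↔ x ∈ center G := fun x => QuotientGroup.eq_one_iff x
  have hLna : ¬ IsMulCommutative (G ⧸ center G) := fun h => by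
    obtain ⟨a, ha⟩ := exists_ne (1 : G ⧸ center G)
    obtain ⟨x, rfl⟩ := hπsurj a
    apply ha
    have hle : commutator G ≤ π.ker := by
      rw [show commutator G = ⁅(⊤ : Subgroup G), ⊤⁆ from rfl, commutator_le]
      intro g _ k _
      rw [MonoidHom.mem_ker, map_commutatorElement, commutatorElement_eq_one_iff_mul_comm]
      exact mul_comm' (π g) (π k)
    rw [hcomm] at hle
    exact MonoidHom.mem_ker.1 (hle (mem_top x))
  obtain ⟨c, h⟩ := exists_quarter hna hZ
  have hcenP : ∀ x ∈ (P : Subgroup G), x ∈ center G → x ∈ cen (P : Subgroup G) := fun x hx hxc =>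
    mem_cen.2 ⟨hx, fun y _ => mem_center_iff.1 hxc y⟩
  -- transfer: the centre meets `P` inside `{1, c}`
  have hPK : ∀ x ∈ (P : Subgroup G), x ∈ center G → x = 1 ∨ x = c := by
    intro x hxP hxK
    let A := Abelianization (P : Subgroup G)
    let ψ : (P : Subgroup G) →* A := Abelianization.of
    have key : ∀ (k : ℕ) (g₀ : G), g₀⁻¹ * x ^ k * g₀ ∈ (P : Subgroup G) → g₀⁻¹ * x ^ k * g₀ = x ^ k :=
      fun k g₀ _ => by rw [mul_assoc, ← mem_center_iff.1 (pow_mem hxK k) g₀, inv_mul_cancel_left]
    have h1 := MonoidHom.transfer_eq_pow ψ x key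
    rw [Abelianization.commutator_subset_ker (MonoidHom.transfer ψ) (hcomm.symm ▸ mem_top x)] at h1
    have h2 : (⟨x ^ (P : Subgroup G).index, (P : Subgroup G).pow_mem hxP _⟩ : (P : Subgroup G)) ∈
        commutator (P : Subgroup G) := by
      rw [← Abelianization.ker_of, MonoidHom.mem_ker]
      exact h1.symm
    have h3 : commutator (P : Subgroup G) ≤ (zpowers c).subgroupOf (P : Subgroup G) := by
      rw [show commutator (P : Subgroup G) = ⁅(⊤ : Subgroup (P : Subgroup G)), ⊤⁆ from rfl, commutator_le]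
      intro a _ b _
      rw [mem_subgroupOf]
      show (a : G) * b * (a : G)⁻¹ * (b : G)⁻¹ ∈ zpowers c
      rcases h.comm_all a.2 b.2 with e | e
      · rw [e, mul_inv_cancel_right, mul_inv_cancel]; exact one_mem _
      · rw [show (a : G) * b * (a : G)⁻¹ * (b : G)⁻¹ = ((a : G) * b) * ((b : G) * a)⁻¹ by group, e,
          mul_inv_cancel_right]
        exact mem_zpowers c
    have h4 : x ^ (P : Subgroup G).index ∈ zpowers c := mem_subgroupOf.1 (h3 h2)
    obtain ⟨k, hk⟩ := P.isPGroup' ⟨x, hxP⟩
    have hk' : x ^ 2 ^ k = 1 := congrArg Subtype.val hk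
    have hcop : (P : Subgroup G).index.Coprime (orderOf x) :=
      Nat.Coprime.coprime_dvd_right (orderOf_dvd_of_pow_eq_one hk')
        (((Nat.Prime.coprime_iff_not_dvd Nat.prime_two).2 P.not_dvd_index).pow_left k).symm
    obtain ⟨j, hj⟩ := exists_pow_eq_self_of_coprime hcop
    have h5 : x ∈ zpowers c := hj ▸ pow_mem h4 j
    obtain ⟨r, hr⟩ := mem_zpowers_iff.1 h5
    rcases Int.even_or_odd r with ⟨s, rfl⟩ | ⟨s, rfl⟩
    · exact Or.inl (by rw [← hr, ← two_mul, zpow_mul, zpow_two, h.mul_self, one_zpow])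
    · exact Or.inr (by rw [← hr, zpow_add, zpow_mul, zpow_two, h.mul_self, one_zpow, one_mul, zpow_one])
  set Q : Sylow 2 (G ⧸ center G) := P.mapSurjective hπsurj with hQ
  have hQeq : (Q : Subgroup (G ⧸ center G)) = (P : Subgroup G).map π := P.coe_mapSurjective hπsurj
  by_cases hc : c ∈ center G
  · -- the centre case
    have hab : IsMulCommutative (Q : Subgroup (G ⧸ center G)) := by
      refine ⟨⟨fun a b => Subtype.ext ?_⟩⟩
      obtain ⟨x, hx, hxa⟩ := hQeq.le a.2
      obtain ⟨y, hy, hyb⟩ := hQeq.le b.2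
      show (a : G ⧸ center G) * b = b * a
      rw [← hxa, ← hyb, ← map_mul, ← map_mul]
      rcases h.comm_all hx hy with e | e
      · rw [e]
      · rw [e, map_mul, (hπ1 c).2 hc, one_mul]
    have hmemZ : ∀ x ∈ (P : Subgroup G), π x ∈ (cen (P : Subgroup G)).map π → x ∈ cen (P : Subgroup G) := by
      rintro x hx ⟨z, hz, e⟩
      have h1 : z⁻¹ * x ∈ center G := by rw [← hπ1, map_mul, map_inv, e, inv_mul_cancel]
      rw [← mul_inv_cancel_left z x]
      exact mul_mem hz (hcenP _ (mul_mem (inv_mem hz.1) hx) h1)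
    obtain ⟨e4⟩ := sylow_four (Q := Q) hLna hab ((cen (P : Subgroup G)).map π)
      (by rw [hQeq]; exact map_mono inf_le_left)
      (by
        intro n hn z hz
        obtain ⟨g, rfl⟩ := hπsurj n
        obtain ⟨z₀, hz₀, rfl⟩ := hz
        refine ⟨g * z₀ * g⁻¹, conj_mem_cen (mem_normalizer_fintype fun p hp => ?_) hz₀, by
          rw [map_mul, map_mul, map_inv]⟩
        have h1 : π g * π p * (π g)⁻¹ ∈ (Q : Subgroup (G ⧸ center G)) :=
          conj_pow_mem hn (hQeq.ge ⟨p, hp, rfl⟩)
        obtain ⟨q, hq, he⟩ := hQeq.le h1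
        have h2 : q⁻¹ * (g * p * g⁻¹) ∈ center G := by
          rw [← hπ1, map_mul, map_inv, map_mul, map_mul, map_inv, he, inv_mul_cancel]
        set r := q⁻¹ * (g * p * g⁻¹) with hr
        have hcr : Commute q r := mem_center_iff.1 h2 q
        have hr2 : ∃ k : ℕ, r ^ 2 ^ k = 1 := by
          obtain ⟨k₁, hk₁⟩ := P.isPGroup' ⟨p, hp⟩
          obtain ⟨k₂, hk₂⟩ := P.isPGroup' ⟨q, hq⟩
          refine ⟨k₁ + k₂, ?_⟩
          have e1 : (q * r) ^ 2 ^ (k₁ + k₂) = 1 := by
            rw [hr, mul_inv_cancel_left, conj_pow, pow_add, pow_mul,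
              show p ^ 2 ^ k₁ = 1 from congrArg Subtype.val hk₁, one_pow, mul_one, mul_inv_cancel]
          have e2 : q ^ 2 ^ (k₁ + k₂) = 1 := by
            rw [pow_add, mul_comm, pow_mul, show q ^ 2 ^ k₂ = 1 from congrArg Subtype.val hk₂, one_pow]
          rwa [hcr.mul_pow, e2, one_mul] at e1
        have hrP : r ∈ (P : Subgroup G) :=
          mem_of_two_element (center_le_normalizer _ h2) hr2
        rw [show g * p * g⁻¹ = q * r by rw [hr, mul_inv_cancel_left]]
        exact (P : Subgroup G).mul_mem hq hrP)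
      (by
        intro a ha
        obtain ⟨x, hx, rfl⟩ := hQeq.le ha
        exact ⟨x * x, h.sq x hx, map_mul π x x⟩)
      (by
        intro a ha haZ b hb hbZ w hw hwZ hab' haw hbw
        obtain ⟨x, hx, rfl⟩ := hQeq.le ha
        obtain ⟨y, hy, rfl⟩ := hQeq.le hb
        obtain ⟨v, hv, rfl⟩ := hQeq.le hw
        refine ⟨x * y * v, h.third x hx (fun h' => haZ ⟨x, h', rfl⟩) y hy (fun h' => hbZ ⟨y, h', rfl⟩)
          v hv (fun h' => hwZ ⟨v, h', rfl⟩) (fun h' => hab' ⟨_, h', by rw [map_mul, map_inv]⟩)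
          (fun h' => haw ⟨_, h', by rw [map_mul, map_inv]⟩)
          (fun h' => hbw ⟨_, h', by rw [map_mul, map_inv]⟩), by rw [map_mul, map_mul]⟩)
      (by
        obtain ⟨x, hx, hxZ, -⟩ := h.exists_pair
        exact ⟨π x, hQeq.ge ⟨x, hx, rfl⟩, fun h' => hxZ (hmemZ x hx h')⟩)
    have hQ4 : Nat.card (Q : Subgroup (G ⧸ center G)) = 4 := by
      rw [Nat.card_congr e4.toEquiv, DihedralGroup.nat_card]
    have hP8 : Nat.card (P : Subgroup G) = 8 := by
      let f := π.subgroupMap (P : Subgroup G)
      have h1 : Nat.card f.range = 4 := by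
        rw [MonoidHom.range_eq_top.2 (π.subgroupMap_surjective _), card_top, ← hQeq]
        exact hQ4
      have h2 : f.ker = (zpowers c).subgroupOf (P : Subgroup G) := by
        ext ⟨x, hx⟩
        rw [MonoidHom.mem_ker, mem_subgroupOf]
        constructor
        · intro e
          rcases hPK x hx ((hπ1 x).1 (congrArg Subtype.val e)) with rfl | rfl
          exacts [one_mem _, mem_zpowers _]
        · intro e
          exact Subtype.ext ((hπ1 x).2 (zpowers_le.2 hc e))
      rw [← card_mul_index f.ker, index_ker, h1, h2,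
        Nat.card_congr (subgroupOfEquivOfLe (zpowers_le.2 h.mem)).toEquiv, Nat.card_zpowers,
        orderOf_eq_prime (by rw [pow_two]; exact h.mul_self) h.ne_one]
    refine ⟨hP8, Or.inr (Or.inr ?_)⟩
    rcases hGW _ hsimple hLna Q 2 le_rfl ⟨e4⟩ with ⟨F, i1, i2, hodd, -, hiso⟩ | ⟨⟨e7⟩⟩
    · exact ⟨F, i1, i2, hodd, hiso⟩
    · exfalso
      rw [alt_seven_sylow_card Q e7] at hQ4
      omega
  · -- the centre meets `P` trivially
    have hdisj : ∀ x ∈ (P : Subgroup G), x ∈ center G → x = 1 := fun x hx hxK =>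
      (hPK x hx hxK).resolve_right fun e => hc (e ▸ hxK)
    let f := π.subgroupMap (P : Subgroup G)
    have hinj : Function.Injective f := by
      rw [injective_iff_map_eq_one]
      exact fun x hx => Subtype.ext (hdisj x x.2 ((hπ1 _).1 (congrArg Subtype.val hx)))
    let eP : (P : Subgroup G) ≃* (Q : Subgroup (G ⧸ center G)) :=
      (MulEquiv.ofBijective f ⟨hinj, π.subgroupMap_surjective _⟩).trans
        (MulEquiv.subgroupCongr hQeq.symm)
    have hQna : ¬ IsMulCommutative (Q : Subgroup (G ⧸ center G)) := fun hh =>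
      hna ⟨⟨fun a b => eP.injective (by rw [map_mul, map_mul]; exact hh.is_comm.comm _ _)⟩⟩
    have hQZ : (center (Q : Subgroup (G ⧸ center G))).index = 4 := by
      have e : (center (P : Subgroup G)).map eP.toMonoidHom = center (Q : Subgroup (G ⧸ center G)) := by
        ext y
        obtain ⟨x, rfl⟩ := eP.surjective y
        rw [mem_map_equiv, MulEquiv.symm_apply_apply, mem_center_iff, mem_center_iff]
        exact ⟨fun hx z => by
            obtain ⟨w, rfl⟩ := eP.surjective z
            rw [← map_mul, hx, map_mul],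
          fun hx w => eP.injective (by rw [map_mul, map_mul]; exact hx _)⟩
      rw [← e]
      exact (index_map_equiv _ eP).trans hZ
    obtain ⟨c', h'⟩ := exists_quarter hQna hQZ
    obtain ⟨e8⟩ := sylow_dihedral h' hLna
    refine ⟨by rw [Nat.card_congr (eP.trans e8).toEquiv, DihedralGroup.nat_card], ?_⟩
    rcases hGW _ hsimple hLna Q 4 (by norm_num) ⟨e8⟩ with ⟨F, i1, i2, hodd, -, hiso⟩ | ⟨⟨e7⟩⟩
    · exact Or.inr (Or.inr ⟨F, i1, i2, hodd, hiso⟩)
    · have hodd : Odd (Nat.card (center G)) := by
        rw [Nat.odd_iff, ← Nat.two_dvd_ne_zero]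
        intro h2
        obtain ⟨⟨x, hxK⟩, ho⟩ := exists_prime_orderOf_dvd_card' (G := center G) 2 h2
        rw [Subgroup.orderOf_mk] at ho
        have hxP : x ∈ (P : Subgroup G) := mem_of_two_element (center_le_normalizer _ hxK)
          ⟨1, by rw [pow_one, ← ho, pow_orderOf_eq_one]⟩
        rw [hdisj x hxP hxK, orderOf_one] at ho
        omega
      rcases card_center_alt_seven hcomm hodd e7 with h1 | h3
      · left
        have hbij : Function.Bijective π := ⟨by
          rw [injective_iff_map_eq_one]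
          intro x hx
          have := Subgroup.card_eq_one.1 h1
          rw [← mem_bot, ← this]
          exact (hπ1 x).1 hx, hπsurj⟩
        exact ⟨(MulEquiv.ofBijective π hbij).trans e7⟩
      · exact Or.inr (Or.inl ⟨h3, ⟨e7⟩⟩)

end CfsgLib.QuarterCenter
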