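import Mathlib

/-!
# Indecomposable abelian 2-groups with a fixed-point-free automorphism of order three
-/

set_option autoImplicit false
set_option maxHeartbeats 400000

namespace CfsgLib.QuarterCenter

open Subgroup

variable {A : Type*} [CommGroup A] [Finite A]

/-- An indecomposable one is homocyclic of rank two. -/
theorem homocyclic_of_indecomposable [Nontrivial A] (hA : IsPGroup 2 A) (τ : A →* A)
    (hτ : ∀ a, a * τ a * τ (τ a) = 1)
    (hind : ∀ S₁ S₂ : Subgroup A, (∀ a ∈ S₁, τ a ∈ S₁) → (∀ a ∈ S₂, τ a ∈ S₂) →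
      S₁ ⊓ S₂ = ⊥ → S₁ ⊔ S₂ = ⊤ → S₁ = ⊥ ∨ S₂ = ⊥) :
    ∃ m : ℕ, 1 ≤ m ∧ Nonempty (A ≃* Multiplicative (ZMod (2 ^ m) × ZMod (2 ^ m))) := by
  classical
  obtain ⟨x, hx⟩ := Finite.exists_max (fun a : A => orderOf a)
  haveI : Fact (Nat.Prime 2) := ⟨Nat.prime_two⟩
  obtain ⟨m, hm⟩ : ∃ m, orderOf x = 2 ^ m := IsPGroup.iff_orderOf.1 hA x
  have hm1 : 1 ≤ m := by
    by_contra h
    obtain rfl : m = 0 := by omega
    obtain ⟨a, ha⟩ := exists_ne (1 : A)
    have h1 := hx a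
    rw [hm, pow_zero] at h1
    exact ha (orderOf_eq_one_iff.1 (le_antisymm h1 (orderOf_pos a)))
  have hexp : ∀ a : A, a ^ 2 ^ m = 1 := by
    intro a
    obtain ⟨j, hj⟩ := IsPGroup.iff_orderOf.1 hA a
    have h1 := hx a
    rw [hm, hj] at h1
    refine orderOf_dvd_iff_pow_eq_one.1 ?_
    rw [hj]
    exact pow_dvd_pow 2 ((Nat.pow_le_pow_iff_right one_lt_two).1 h1)
  haveI : NeZero (2 ^ m) := ⟨by positivity⟩
  -- the homomorphism from the homocyclic group
  let f : ZMod (2 ^ m) →+ Additive A :=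
    ZMod.lift (2 ^ m) ⟨zmultiplesHom _ (Additive.ofMul x), by
      show Additive.ofMul (x ^ (((2 ^ m : ℕ) : ℤ))) = 0
      rw [zpow_natCast, hexp]; rfl⟩
  let g : ZMod (2 ^ m) →+ Additive A := (MonoidHom.toAdditive τ).comp f
  let φ : Multiplicative (ZMod (2 ^ m) × ZMod (2 ^ m)) →* A :=
    AddMonoidHom.toMultiplicativeLeft (f.coprod g)
  have hφ : ∀ i j : ℤ, φ (Multiplicative.ofAdd ((i : ZMod (2 ^ m)), (j : ZMod (2 ^ m))))
      = x ^ i * τ x ^ j := by
    intro i j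
    show Additive.toMul (f (i : ZMod (2 ^ m)) + (MonoidHom.toAdditive τ) (f (j : ZMod (2 ^ m)))) = _
    simp only [f, ZMod.lift_coe, zmultiplesHom_apply, toMul_add]
    show x ^ i * τ (x ^ j) = _
    rw [map_zpow]
  set y := x ^ 2 ^ (m - 1) with hy
  have hy1 : y ≠ 1 := by
    intro h
    have h1 := orderOf_dvd_of_pow_eq_one h
    rw [hm, Nat.pow_dvd_pow_iff_le_right one_lt_two] at h1
    omega
  have hindep : ∀ i j : ℕ, y ^ i * τ y ^ j = 1 → 2 ∣ i ∧ 2 ∣ j := by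
    intro i j h
    have hy2 : y ^ 2 = 1 := by
      rw [hy, ← pow_mul, ← pow_succ, Nat.sub_add_cancel hm1, hexp]
    have hty2 : τ y ^ 2 = 1 := by rw [← map_pow, hy2, map_one]
    have ei : y ^ i = y ^ (i % 2) := pow_eq_pow_mod i hy2
    have ej : τ y ^ j = τ y ^ (j % 2) := pow_eq_pow_mod j hty2
    rw [ei, ej] at h
    have key := hτ y
    rcases Nat.mod_two_eq_zero_or_one i with hi | hi <;>
      rcases Nat.mod_two_eq_zero_or_one j with hj | hj <;> rw [hi, hj] at h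
    · exact ⟨Nat.dvd_of_mod_eq_zero hi, Nat.dvd_of_mod_eq_zero hj⟩
    · exfalso
      rw [pow_zero, one_mul, pow_one] at h
      rw [h, map_one, mul_one, mul_one] at key
      exact hy1 key
    · exfalso
      rw [pow_one, pow_zero, mul_one] at h
      exact hy1 h
    · exfalso
      rw [pow_one, pow_one] at h
      rw [h, one_mul] at key
      have h2 : τ y = 1 := by
        have := hτ (τ (τ y))
        rw [key] at this
        simp only [map_one, mul_one] at this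
        have h3 := hτ (τ y)
        rw [key] at h3
        simpa using h3
      rw [h2, mul_one] at h
      exact hy1 h
  have hinj : Function.Injective φ := by
    rw [injective_iff_map_eq_one]
    intro w hw
    by_contra hne
    have hker : φ.ker ≠ ⊥ := fun h => hne (mem_bot.1 (h ▸ MonoidHom.mem_ker.2 hw))
    haveI := (Subgroup.nontrivial_iff_ne_bot _).2 hker
    have hp : IsPGroup 2 φ.ker := fun w => ⟨m, by
      apply Subtype.ext
      show (w : Multiplicative (ZMod (2 ^ m) × ZMod (2 ^ m))) ^ 2 ^ m = 1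
      apply Multiplicative.toAdd.injective
      rw [toAdd_pow, toAdd_one]
      exact Prod.ext (by rw [Prod.smul_fst, nsmul_eq_mul, ZMod.natCast_self, zero_mul]; rfl)
        (by rw [Prod.smul_snd, nsmul_eq_mul, ZMod.natCast_self, zero_mul]; rfl)⟩
    obtain ⟨k, hk⟩ := IsPGroup.iff_card.1 hp
    have hd : 2 ∣ Nat.card φ.ker := by
      rw [hk]
      rcases k with _ | k
      · exact absurd hk (Finite.one_lt_card (α := φ.ker)).ne'
      · exact dvd_pow_self _ (Nat.succ_ne_zero _)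
    obtain ⟨⟨w, hw⟩, ho⟩ := exists_prime_orderOf_dvd_card' 2 hd
    rw [orderOf_eq_prime_iff] at ho
    obtain ⟨h2, h1⟩ := ho
    obtain ⟨⟨a, b⟩, rfl⟩ := Multiplicative.ofAdd.surjective w
    have h2' := congrArg (fun u : φ.ker => Multiplicative.toAdd (u : Multiplicative (ZMod (2 ^ m) × ZMod (2 ^ m)))) h2
    simp only [SubmonoidClass.coe_pow, OneMemClass.coe_one, toAdd_pow, toAdd_one, toAdd_ofAdd,
      Prod.smul_mk, Prod.mk_eq_zero, nsmul_eq_mul] at h2'
    have hhalf : ∀ r : ZMod (2 ^ m), ((2 : ℕ) : ZMod (2 ^ m)) * r = 0 → ∃ i : ℕ, r.val = 2 ^ (m - 1) * i := by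
      intro r hr
      have h3 : 2 ^ m ∣ 2 * r.val := by
        rw [← ZMod.natCast_eq_zero_iff, Nat.cast_mul, ZMod.natCast_zmod_val]
        exact hr
      have h5 : 2 * 2 ^ (m - 1) = 2 ^ m := by rw [← pow_succ', Nat.sub_add_cancel hm1]
      exact Nat.dvd_of_mul_dvd_mul_left two_pos ((dvd_of_eq h5).trans h3)
    obtain ⟨i, hi⟩ := hhalf a h2'.1
    obtain ⟨j, hj⟩ := hhalf b h2'.2
    have h4 := hφ a.val b.val
    rw [Int.cast_natCast, Int.cast_natCast, ZMod.natCast_zmod_val, ZMod.natCast_zmod_val,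
      MonoidHom.mem_ker.1 hw, zpow_natCast, zpow_natCast, hi, hj, pow_mul, pow_mul, ← map_pow τ x,
      ← hy] at h4
    obtain ⟨⟨i', rfl⟩, ⟨j', rfl⟩⟩ := hindep i j h4.symm
    apply h1
    apply Subtype.ext
    have ha : a = 0 := by
      rw [← ZMod.natCast_zmod_val a, hi, ← mul_assoc, ← pow_succ, Nat.sub_add_cancel hm1,
        Nat.cast_mul, ZMod.natCast_self, zero_mul]
    have hb : b = 0 := by
      rw [← ZMod.natCast_zmod_val b, hj, ← mul_assoc, ← pow_succ, Nat.sub_add_cancel hm1,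
        Nat.cast_mul, ZMod.natCast_self, zero_mul]
    simp [ha, hb]
  set M := φ.range with hM
  have hMmem : ∀ w ∈ M, ∃ i j : ℤ, w = x ^ i * τ x ^ j := by
    rintro _ ⟨w, rfl⟩
    obtain ⟨⟨a, b⟩, rfl⟩ := Multiplicative.ofAdd.surjective w
    refine ⟨(a.val : ℤ), (b.val : ℤ), ?_⟩
    rw [← hφ]
    simp
  have hxM : x ∈ M := ⟨_, (hφ 1 0).trans (by simp)⟩
  have htxM : τ x ∈ M := ⟨_, (hφ 0 1).trans (by simp)⟩
  have hτ2x : τ (τ x) = x⁻¹ * (τ x)⁻¹ := by
    have h := eq_inv_of_mul_eq_one_right (hτ x)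
    rw [h, mul_inv_rev, mul_comm]
  have hMτ : ∀ a ∈ M, τ a ∈ M := by
    intro a ha
    obtain ⟨i, j, rfl⟩ := hMmem a ha
    rw [map_mul, map_zpow, map_zpow, hτ2x]
    exact mul_mem (zpow_mem htxM _) (zpow_mem (mul_mem (inv_mem hxM) (inv_mem htxM)) _)
  -- a maximal invariant complement
  obtain ⟨L, ⟨hLτ, hLM⟩, hLmax⟩ := (Set.toFinite {L : Subgroup A | (∀ a ∈ L, τ a ∈ L) ∧ L ⊓ M = ⊥}).exists_maximal
    ⟨⊥, fun a ha => by rw [mem_bot] at ha ⊢; rw [ha, map_one], bot_inf_eq _⟩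
  have htop : L ⊔ M = ⊤ := by
    by_contra hne
    obtain ⟨y₀, hy₀⟩ : ∃ a, a ∉ L ⊔ M := by
      by_contra h
      push Not at h
      exact hne ((eq_top_iff' _).2 h)
    -- an element outside whose square is inside
    obtain ⟨z, hz, hz2⟩ : ∃ z, z ∉ L ⊔ M ∧ z ^ 2 ∈ L ⊔ M := by
      have hex : ∃ k, y₀ ^ 2 ^ k ∈ L ⊔ M := ⟨m, by rw [hexp]; exact one_mem _⟩
      have h0 : Nat.find hex ≠ 0 := fun h => hy₀ (by
        have := Nat.find_spec hex
        rwa [h, pow_zero, pow_one] at this)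
      refine ⟨y₀ ^ 2 ^ (Nat.find hex - 1), Nat.find_min hex (by omega), ?_⟩
      rw [← pow_mul, ← pow_succ, Nat.sub_add_cancel (by omega)]
      exact Nat.find_spec hex
    obtain ⟨l, hl, μ, hμ, hlμ⟩ := mem_sup.1 hz2
    obtain ⟨i, j, rfl⟩ := hMmem μ hμ
    have hμ1 : (x ^ i * τ x ^ j) ^ 2 ^ (m - 1) = 1 := by
      have h1 : l ^ 2 ^ (m - 1) * (x ^ i * τ x ^ j) ^ 2 ^ (m - 1) = 1 := by
        rw [← mul_pow, hlμ, ← pow_mul, ← pow_succ', Nat.sub_add_cancel hm1, hexp]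
      have h2 : (x ^ i * τ x ^ j) ^ 2 ^ (m - 1) ∈ L ⊓ M :=
        ⟨by rw [eq_inv_of_mul_eq_one_right h1]; exact L.inv_mem (L.pow_mem hl _), M.pow_mem hμ _⟩
      rwa [hLM, mem_bot] at h2
    obtain ⟨i', rfl⟩ : 2 ∣ i := by
      obtain ⟨i0, hi0⟩ : ∃ i0 : ℕ, (i0 : ℤ) = i % (2 ^ m : ℕ) := ⟨_, Int.toNat_of_nonneg (Int.emod_nonneg _ (by positivity))⟩
      obtain ⟨j0, hj0⟩ : ∃ j0 : ℕ, (j0 : ℤ) = j % (2 ^ m : ℕ) := ⟨_, Int.toNat_of_nonneg (Int.emod_nonneg _ (by positivity))⟩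
      have hxi : x ^ i = x ^ i0 := by rw [← zpow_natCast x i0, hi0, ← hm, zpow_mod_orderOf]
      have hxj : x ^ j = x ^ j0 := by rw [← zpow_natCast x j0, hj0, ← hm, zpow_mod_orderOf]
      have hd := (hindep i0 j0 (by
        rw [← hμ1, hxi, ← map_zpow τ x j, hxj, hy, mul_pow, map_pow, map_pow, ← pow_mul, ← pow_mul,
          ← pow_mul, ← pow_mul, mul_comm i0, mul_comm j0])).1
      have h2m : (2 : ℤ) ∣ ((2 ^ m : ℕ) : ℤ) := by exact_mod_cast dvd_pow_self 2 (by omega : m ≠ 0)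
      rw [← Int.emod_add_mul_ediv i ((2 ^ m : ℕ) : ℤ), ← hi0]
      exact dvd_add (by exact_mod_cast hd) (dvd_mul_of_dvd_left h2m _)
    obtain ⟨j', rfl⟩ : 2 ∣ j := by
      obtain ⟨j0, hj0⟩ : ∃ j0 : ℕ, (j0 : ℤ) = j % (2 ^ m : ℕ) := ⟨_, Int.toNat_of_nonneg (Int.emod_nonneg _ (by positivity))⟩
      have hxj : x ^ j = x ^ j0 := by rw [← zpow_natCast x j0, hj0, ← hm, zpow_mod_orderOf]
      have hxi : (x ^ (2 * i')) ^ 2 ^ (m - 1) = 1 := by
        rw [← zpow_natCast, ← zpow_mul, show 2 * i' * ((2 ^ (m - 1) : ℕ) : ℤ)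
          = ((2 ^ (m - 1) * 2 : ℕ) : ℤ) * i' by push_cast; ring, ← pow_succ,
          Nat.sub_add_cancel hm1, zpow_mul, zpow_natCast, hexp, one_zpow]
      have hd := (hindep 0 j0 (by
        rw [← hμ1, mul_pow, hxi, ← map_zpow τ x j, hxj, pow_zero, one_mul, one_mul, hy, map_pow,
          map_pow, ← pow_mul, ← pow_mul, mul_comm j0])).2
      have h2m : (2 : ℤ) ∣ ((2 ^ m : ℕ) : ℤ) := by exact_mod_cast dvd_pow_self 2 (by omega : m ≠ 0)
      rw [← Int.emod_add_mul_ediv j ((2 ^ m : ℕ) : ℤ), ← hj0]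
      exact dvd_add (by exact_mod_cast hd) (dvd_mul_of_dvd_left h2m _)
    set z' := z * (x ^ i' * τ x ^ j')⁻¹ with hz'
    have hz'LM : z' ∉ L ⊔ M := fun h => hz (by
      have := mul_mem h (mem_sup_right (mul_mem (zpow_mem hxM i') (zpow_mem htxM j')) : _ ∈ L ⊔ M)
      rwa [hz', inv_mul_cancel_right] at this)
    have hz'2 : z' ^ 2 ∈ L := by
      have e : (x ^ i' * τ x ^ j') ^ 2 = x ^ (2 * i') * τ x ^ (2 * j') := by
        rw [mul_pow, ← zpow_natCast, ← zpow_natCast (τ x ^ j'), ← zpow_mul, ← zpow_mul, mul_comm i',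
          mul_comm j']
        rfl
      rw [hz', mul_pow, inv_pow, ← hlμ, e, mul_inv_cancel_right]
      exact hl
    have hτ2z : τ (τ z') = z'⁻¹ * (τ z')⁻¹ := by
      rw [eq_inv_of_mul_eq_one_right (hτ z'), mul_inv_rev, mul_comm]
    set L' := L ⊔ closure ({z', τ z'} : Set A) with hL'
    have hL'τ : ∀ a ∈ L', τ a ∈ L' := by
      intro a ha
      obtain ⟨l, hl, w, hw, rfl⟩ := mem_sup.1 ha
      obtain ⟨p, q, rfl⟩ := mem_closure_pair.1 hw
      rw [map_mul, map_mul, map_zpow, map_zpow, hτ2z]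
      have h1 : z' ∈ L' := mem_sup_right (subset_closure (by simp))
      have h2 : τ z' ∈ L' := mem_sup_right (subset_closure (by simp))
      exact mul_mem (mem_sup_left (hLτ l hl))
        (mul_mem (zpow_mem h2 _) (zpow_mem (mul_mem (inv_mem h1) (inv_mem h2)) _))
    have hLMτ : ∀ a ∈ L ⊔ M, τ a ∈ L ⊔ M := by
      intro a ha
      obtain ⟨l, hl, w, hw, rfl⟩ := mem_sup.1 ha
      rw [map_mul]
      exact mul_mem (mem_sup_left (hLτ l hl)) (mem_sup_right (hMτ w hw))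
    have htz : τ z' ∉ L ⊔ M := fun h => hz'LM (by
      rw [show z' = (τ z' * τ (τ z'))⁻¹ from eq_inv_of_mul_eq_one_left (by
        rw [← mul_assoc]; exact hτ z')]
      exact inv_mem (mul_mem h (hLMτ _ h)))
    have hzz : z' * τ z' ∉ L ⊔ M := fun h => hz'LM (by
      have h1 : τ (τ z') ∈ L ⊔ M := by
        rw [eq_inv_of_mul_eq_one_right (hτ z')]
        exact inv_mem h
      have h2 : τ (τ (τ z')) = z' := by
        have h3 := hτ (τ z')
        rw [hτ2z] at h3 ⊢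
        rw [map_mul, map_inv, map_inv, hτ2z]
        group
      rw [← h2]
      exact hLMτ _ h1)
    have hL'M : L' ⊓ M = ⊥ := by
      refine (eq_bot_iff_forall _).2 fun a ⟨ha, haM⟩ => ?_
      obtain ⟨l, hl, w, hw, rfl⟩ := mem_sup.1 ha
      obtain ⟨p, q, rfl⟩ := mem_closure_pair.1 hw
      have hwLM : z' ^ p * τ z' ^ q ∈ L ⊔ M := by
        have := mul_mem (mem_sup_left (inv_mem hl) : l⁻¹ ∈ L ⊔ M) (mem_sup_right haM : _ ∈ L ⊔ M)
        rwa [inv_mul_cancel_left] at this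
      have hz2' : τ z' ^ 2 ∈ L := by rw [← map_pow]; exact hLτ _ hz'2
      have hsplit : ∀ (w : A) (k : ℤ), w ^ 2 ∈ L → ∃ e : A, (e = 1 ∨ e = w) ∧ ∃ l' ∈ L, w ^ k = l' * e := by
        intro w k hw
        have hw' : ∀ r : ℤ, w ^ (2 * r) ∈ L := fun r => by
          rw [zpow_mul]; exact zpow_mem (by exact_mod_cast hw) r
        rcases Int.even_or_odd k with ⟨r, rfl⟩ | ⟨r, rfl⟩
        · exact ⟨1, Or.inl rfl, _, by rw [← two_mul]; exact hw' r, (mul_one _).symm⟩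
        · exact ⟨w, Or.inr rfl, _, hw' r, by rw [zpow_add, zpow_one]⟩
      obtain ⟨e₁, he₁, l₁, hl₁, h1⟩ := hsplit z' p hz'2
      obtain ⟨e₂, he₂, l₂, hl₂, h2⟩ := hsplit (τ z') q hz2'
      rw [h1, h2] at hwLM haM ⊢
      have he : e₁ * e₂ ∈ L ⊔ M := by
        have := mul_mem (mem_sup_left (inv_mem (mul_mem hl₁ hl₂)) : (l₁ * l₂)⁻¹ ∈ L ⊔ M) hwLM
        rwa [show (l₁ * l₂)⁻¹ * (l₁ * e₁ * (l₂ * e₂)) = e₁ * e₂ by
          rw [mul_mul_mul_comm l₁ e₁, inv_mul_cancel_left]] at this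
      rcases he₁ with e | e <;> rcases he₂ with e' | e' <;> rw [e, e'] at he haM ⊢
      · have hL : l * (l₁ * 1 * (l₂ * 1)) ∈ L := by
          simpa using mul_mem hl (mul_mem hl₁ hl₂)
        exact mem_bot.1 (hLM ▸ (⟨hL, haM⟩ : _ ∈ L ⊓ M))
      · exact absurd (by rwa [one_mul] at he) htz
      · exact absurd (by rwa [mul_one] at he) hz'LM
      · exact absurd he hzz
    have hlt := hLmax ⟨hL'τ, hL'M⟩ (le_sup_left : L ≤ L')
    exact hz'LM (mem_sup_left (hlt (mem_sup_right (subset_closure (by simp)) : z' ∈ L')))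
  rcases hind L M hLτ hMτ hLM htop with h | h
  · rw [h, bot_sup_eq] at htop
    exact ⟨m, hm1, ⟨((MonoidHom.ofInjective hinj).trans
      ((MulEquiv.subgroupCongr htop).trans topEquiv)).symm⟩⟩
  · exact absurd (mem_bot.1 (h ▸ hxM)) fun e => by
      rw [e, orderOf_one] at hm
      exact absurd hm (Nat.one_lt_pow (by omega) one_lt_two).ne

end CfsgLib.QuarterCenter
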