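import Cfsg.Agent.QuarterCenter.Fusion

/-!
# The part of the centre moved by the normalizer
-/

set_option autoImplicit false
set_option maxHeartbeats 400000

namespace CfsgLib.QuarterCenter

open Subgroup

variable {G : Type*} [Group G] [Finite G] {P : Sylow 2 G} {c : G}

/-- The subgroup of the centre generated by the differences under `N(P)`. -/
def moved (P : Sylow 2 G) : Subgroup G :=
  closure {d | ∃ z ∈ cen (P : Subgroup G), ∃ n ∈ normalizer ((P : Subgroup G) : Set G),
    d = z⁻¹ * (n * z * n⁻¹)}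

theorem conj_mem_cen {n z : G} (hn : n ∈ normalizer ((P : Subgroup G) : Set G))
    (hz : z ∈ cen (P : Subgroup G)) : n * z * n⁻¹ ∈ cen (P : Subgroup G) := by
  refine mem_cen.2 ⟨(mem_normalizer_iff.1 hn z).1 hz.1, fun y hy => ?_⟩
  have h1 := (mem_cen.1 hz).2 _ (conj_inv_mem hn hy)
  calc y * (n * z * n⁻¹) = n * (n⁻¹ * y * n * z) * n⁻¹ := by group
    _ = n * (z * (n⁻¹ * y * n)) * n⁻¹ := by rw [h1]
    _ = n * z * n⁻¹ * y := by group

theorem moved_le_cen : moved P ≤ cen (P : Subgroup G) := by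
  rw [moved, closure_le]
  rintro _ ⟨z, hz, n, hn, rfl⟩
  exact mul_mem (inv_mem hz) (conj_mem_cen hn hz)

theorem diff_mem_moved {z n : G} (hz : z ∈ cen (P : Subgroup G))
    (hn : n ∈ normalizer ((P : Subgroup G) : Set G)) : z⁻¹ * (n * z * n⁻¹) ∈ moved P :=
  subset_closure ⟨z, hz, n, hn, rfl⟩

theorem conj_mem_moved {n d : G} (hn : n ∈ normalizer ((P : Subgroup G) : Set G))
    (hd : d ∈ moved P) : n * d * n⁻¹ ∈ moved P := by
  rw [moved] at hd
  induction hd using closure_induction with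
  | mem d hd =>
    obtain ⟨z, hz, m, hm, rfl⟩ := hd
    rw [show n * (z⁻¹ * (m * z * m⁻¹)) * n⁻¹
      = (z⁻¹ * (n * z * n⁻¹))⁻¹ * (z⁻¹ * (n * m * z * (n * m)⁻¹)) by group]
    exact mul_mem (inv_mem (diff_mem_moved hz hn)) (diff_mem_moved hz (mul_mem hn hm))
  | one => simp
  | mul a b _ _ ha hb =>
    rw [show n * (a * b) * n⁻¹ = n * a * n⁻¹ * (n * b * n⁻¹) by group]
    exact mul_mem ha hb
  | inv a _ ha =>
    rw [show n * a⁻¹ * n⁻¹ = (n * a * n⁻¹)⁻¹ by group]
    exact inv_mem ha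

namespace Quarter

open scoped Classical in
theorem c_notMem_moved (h : Quarter (P : Subgroup G) c) : c ∉ moved P := by
  haveI : Fact (Nat.Prime 2) := ⟨Nat.prime_two⟩
  set N := normalizer ((P : Subgroup G) : Set G) with hN
  set Z := cen (P : Subgroup G) with hZ
  letI : CommGroup Z :=
    { (inferInstance : Group Z) with
      mul_comm := fun a b => Subtype.ext ((QuarterCenter.mem_cen.1 b.2).2 a a.2.1) }
  haveI : ((P : Subgroup G).subgroupOf N).Normal := normal_in_normalizer
  haveI : Fintype (N ⧸ (P : Subgroup G).subgroupOf N) := Fintype.ofFinite _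
  let f : (N ⧸ (P : Subgroup G).subgroupOf N) → Z → Z :=
    Quotient.lift (fun (n : N) (z : Z) => (⟨n * z * (n : G)⁻¹, conj_mem_cen n.2 z.2⟩ : Z)) (by
      intro n m hnm
      replace hnm : ((n⁻¹ * m : N) : G) ∈ (P : Subgroup G) :=
        mem_subgroupOf.1 (QuotientGroup.leftRel_apply.1 hnm)
      funext z
      apply Subtype.ext
      have h1 := (QuarterCenter.mem_cen.1 z.2).2 _ hnm
      show (n : G) * z * (n : G)⁻¹ = m * z * (m : G)⁻¹
      calc (n : G) * z * (n : G)⁻¹ = (n : G) * (z * (((n⁻¹ * m : N) : G))) * (((n⁻¹ * m : N) : G))⁻¹ * (n : G)⁻¹ := by group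
        _ = (n : G) * ((((n⁻¹ * m : N) : G)) * z) * (((n⁻¹ * m : N) : G))⁻¹ * (n : G)⁻¹ := by rw [h1]
        _ = m * z * (m : G)⁻¹ := by simp only [coe_mul, coe_inv]; group)
  have hf : ∀ (n : N) (z : Z), (f n z : G) = n * z * (n : G)⁻¹ := fun _ _ => rfl
  let φ : Z →* Z := MonoidHom.mk' (fun z => ∏ q, f q z) fun a b => by
    rw [← Finset.prod_mul_distrib]
    refine Finset.prod_congr rfl fun q _ => ?_
    induction q using QuotientGroup.induction_on with
    | H n => exact Subtype.ext (by rw [coe_mul, hf, hf, hf, coe_mul]; group)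
  have hker : ∀ d ∈ moved P, ∀ hd : d ∈ Z, φ ⟨d, hd⟩ = 1 := by
    intro d hd
    rw [moved] at hd
    induction hd using closure_induction with
    | mem d hd =>
      obtain ⟨z, hz, m, hm, rfl⟩ := hd
      intro hd'
      have e : (⟨z⁻¹ * (m * z * m⁻¹), hd'⟩ : Z) = (⟨z, hz⟩ : Z)⁻¹ * f (⟨m, hm⟩ : N) ⟨z, hz⟩ :=
        Subtype.ext (by rw [coe_mul, hf]; rfl)
      rw [e, map_mul, map_inv, inv_mul_eq_one]
      show ∏ q, f q ⟨z, hz⟩ = ∏ q, f q (f (⟨m, hm⟩ : N) ⟨z, hz⟩)
      refine (Fintype.prod_equiv (Equiv.mulRight ((⟨m, hm⟩ : N) : N ⧸ (P : Subgroup G).subgroupOf N))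
        _ _ fun q => ?_).symm
      induction q using QuotientGroup.induction_on with
      | H n =>
        apply Subtype.ext
        show _ = (f (((n : N ⧸ (P : Subgroup G).subgroupOf N)) * (⟨m, hm⟩ : N)) ⟨z, hz⟩ : G)
        rw [← QuotientGroup.mk_mul, hf, hf, hf, coe_mul]
        group
    | one => intro _; exact map_one φ
    | mul a b ha hb iha ihb =>
      intro _
      have ha' := moved_le_cen (P := P) (by rw [moved]; exact ha)
      have hb' := moved_le_cen (P := P) (by rw [moved]; exact hb)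
      have e : φ (⟨a, ha'⟩ * ⟨b, hb'⟩) = 1 := by rw [map_mul, iha, ihb, one_mul]
      exact e
    | inv a ha iha =>
      intro _
      have ha' := moved_le_cen (P := P) (by rw [moved]; exact ha)
      have e : φ (⟨a, ha'⟩⁻¹) = 1 := by rw [map_inv, iha, inv_one]
      exact e
  intro hc
  have h1 := hker c hc h.mem_cen
  have h2 : ∀ q, f q ⟨c, h.mem_cen⟩ = ⟨c, h.mem_cen⟩ := fun q => by
    induction q using QuotientGroup.induction_on with
    | H n => exact Subtype.ext (h.conj_c n.2)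
  change ∏ q, f q ⟨c, h.mem_cen⟩ = 1 at h1
  simp only [h2, Finset.prod_const, Finset.card_univ, ← Nat.card_eq_fintype_card] at h1
  have hodd : Odd (Nat.card (N ⧸ (P : Subgroup G).subgroupOf N)) := by
    rw [Nat.odd_iff, ← Nat.two_dvd_ne_zero, ← index_eq_card]
    intro hd
    exact P.not_dvd_index (hd.trans (relIndex_dvd_index_of_le le_normalizer))
  obtain ⟨k, hk⟩ := hodd
  have h3 : c ^ (2 * k + 1) = 1 := by
    rw [← hk]
    simpa using congrArg Subtype.val h1
  rw [pow_succ, pow_mul, pow_two, h.mul_self, one_pow, one_mul] at h3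
  exact h.ne_one h3

end Quarter

end CfsgLib.QuarterCenter
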