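import Cfsg.Agent.QuarterCenter.Norm
import Cfsg.Agent.ZStar.Theorem
import Cfsg.Agent.ProductFusion.DirectProduct
import Cfsg.Agent.Small.Dihedral
import Cfsg.Agent.Inv54.Core

/-!
# A simple group with centre of index four in a Sylow 2-subgroup has a dihedral one of order eight
-/

set_option autoImplicit false
set_option maxHeartbeats 400000

namespace CfsgLib.QuarterCenter

open Subgroup
open scoped commutatorElement

variable {G : Type*} [Group G] [Finite G] [IsSimpleGroup G]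

theorem center_eq_bot (hna : ¬ IsMulCommutative G) : center G = ⊥ := by
  rcases IsSimpleGroup.eq_bot_or_eq_top_of_normal (center G) inferInstance with h | h
  · exact h
  · exact absurd ⟨⟨fun a b => ((mem_center_iff.1 (h ▸ mem_top b)) a)⟩⟩ hna

theorem commutator_eq_top (hna : ¬ IsMulCommutative G) : commutator G = ⊤ := by
  rcases IsSimpleGroup.eq_bot_or_eq_top_of_normal (commutator G) inferInstance with h | h
  · refine absurd ⟨⟨fun a b => ?_⟩⟩ hna
    have h1 : ⁅a, b⁆ ∈ commutator G := commutator_mem_commutator (mem_top a) (mem_top b)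
    rw [h, mem_bot, commutatorElement_eq_one_iff_mul_comm] at h1
    exact h1
  · exact h

variable {P : Sylow 2 G} {c : G}

theorem odd_normal_eq_bot (h : Quarter (P : Subgroup G) c) (N : Subgroup G) (hN : N.Normal)
    (hodd : Odd (Nat.card N)) : N = ⊥ := by
  rcases IsSimpleGroup.eq_bot_or_eq_top_of_normal N hN with h' | h'
  · exact h'
  · exfalso
    rw [h', card_top] at hodd
    have h2 : orderOf c = 2 := orderOf_eq_prime (by rw [pow_two]; exact h.mul_self) h.ne_one
    exact hodd.not_two_dvd_nat (h2 ▸ orderOf_dvd_natCard c)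

theorem oddCore_eq_bot (h : Quarter (P : Subgroup G) c) : Cfsg.oddCore G = ⊥ :=
  odd_normal_eq_bot h _ inferInstance Inv54.odd_card_oddCore

theorem focal_eq (hna : ¬ IsMulCommutative G) (P : Sylow 2 G) :
    (P : Subgroup G).focalSubgroup = (P : Subgroup G) := by
  haveI : Fact (Nat.Prime 2) := ⟨Nat.prime_two⟩
  rw [← commutator_inf_eq_focalSubgroup P, commutator_eq_top hna, top_inf_eq]

/-- Some maximal abelian subgroup is essential. -/
theorem exists_ess (h : Quarter (P : Subgroup G) c) (hna : ¬ IsMulCommutative G) :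
    ∃ x ∈ (P : Subgroup G), x ∉ cen (P : Subgroup G) ∧ Ess (amax (P : Subgroup G) x) c := by
  by_contra hc
  push Not at hc
  have hiso : ∀ g : G, g * c * g⁻¹ ∈ (P : Subgroup G) → g * c * g⁻¹ = c := by
    intro g hg
    refine conj_mem_of_local ({c} : Set G) ?_ rfl h.mem hg
    intro D hD n hn a _ ha
    obtain rfl : a = c := ha
    rcases isGood_cases h hD with rfl | ⟨x, hx, hxZ, rfl⟩
    · exact h.conj_c hn
    · by_contra hne
      exact hc x hx hxZ ⟨n, hn, hne⟩
  obtain ⟨N, hN, hodd, hcN⟩ := ZStar.exists_oddNormal_of_sylow P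
    (orderOf_eq_prime (by rw [pow_two]; exact h.mul_self) h.ne_one) h.mem hiso
  rw [odd_normal_eq_bot h N hN hodd] at hcN
  have hcc : c ∈ center G := mem_center_iff.2 fun g => by
    have h1 := mem_bot.1 (hcN g)
    rw [mul_inv_eq_one, mul_inv_eq_iff_eq_mul] at h1
    exact h1.symm
  rw [center_eq_bot hna, mem_bot] at hcc
  exact h.ne_one hcc

/-- An essential subgroup contains a non-central conjugate of `c`. -/
theorem ess_involution (h : Quarter (P : Subgroup G) c) {x : G} (hx : x ∈ (P : Subgroup G))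
    (hE : Ess (amax (P : Subgroup G) x) c) :
    ∃ v, ConjC (amax (P : Subgroup G) x) c v ∧ v ≠ c ∧ v ∈ amax (P : Subgroup G) x ∧
      v ∉ cen (P : Subgroup G) ∧ v * v = 1 := by
  obtain ⟨n, hn, hne⟩ := hE
  exact ⟨_, ⟨n, hn, rfl⟩, hne, h.conjC_mem hx ⟨n, hn, rfl⟩,
    h.conjC_not_cen ⟨n, hn, rfl⟩ hne, h.conjC_sq (x := x) ⟨n, hn, rfl⟩⟩

/-- At most two maximal abelian subgroups are essential. -/
theorem not_three (h : Quarter (P : Subgroup G) c) {x y w : G} (hx : x ∈ (P : Subgroup G))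
    (hxZ : x ∉ cen (P : Subgroup G)) (hy : y ∈ (P : Subgroup G)) (hyx : y ∉ amax (P : Subgroup G) x)
    (hw : w ∈ (P : Subgroup G)) (hwx : w ∉ amax (P : Subgroup G) x)
    (hwy : w ∉ amax (P : Subgroup G) y) (hEx : Ess (amax (P : Subgroup G) x) c)
    (hEy : Ess (amax (P : Subgroup G) y) c) (hEw : Ess (amax (P : Subgroup G) w) c) : False := by
  have hyZ : y ∉ cen (P : Subgroup G) := fun hz => hyx (cen_le_amax hx hz)
  have hwZ : w ∉ cen (P : Subgroup G) := fun hz => hwx (cen_le_amax hx hz)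
  obtain ⟨v₁, -, -, h1M, h1Z, h1s⟩ := ess_involution h hx hEx
  obtain ⟨v₂, -, -, h2M, h2Z, h2s⟩ := ess_involution h hy hEy
  obtain ⟨v₃, -, -, h3M, h3Z, h3s⟩ := ess_involution h hw hEw
  have e1 := h.amax_eq hx hxZ h1M h1Z
  have e2 := h.amax_eq hy hyZ h2M h2Z
  have hswap : ∀ {a b d : G}, a ∈ (P : Subgroup G) → a ∉ cen (P : Subgroup G) →
      b ∈ (P : Subgroup G) → b ∉ cen (P : Subgroup G) → d ∈ amax (P : Subgroup G) b →
      d ∉ cen (P : Subgroup G) → b ∉ amax (P : Subgroup G) a → d ∉ amax (P : Subgroup G) a := by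
    intro a b d ha haZ hb hbZ hd hdZ hba hda
    have e := (h.amax_eq hb hbZ hd hdZ).symm.trans (h.amax_eq ha haZ hda hdZ)
    exact hba (e ▸ self_mem_amax hb)
  have h21 : v₂ ∉ amax (P : Subgroup G) v₁ := by
    rw [e1]; exact hswap hx hxZ hy hyZ h2M h2Z hyx
  have h31 : v₃ ∉ amax (P : Subgroup G) v₁ := by
    rw [e1]; exact hswap hx hxZ hw hwZ h3M h3Z hwx
  have h32 : v₃ ∉ amax (P : Subgroup G) v₂ := by
    rw [e2]; exact hswap hy hyZ hw hwZ h3M h3Z hwy
  have hz := h.mem_of_not_mem h1M.1 h1Z h2M.1 h21 h3M.1 h31 h32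
  set z := v₁ * v₂ * v₃ with hz'
  have h12 : v₁ * v₂ = c * (v₂ * v₁) := by
    rcases h.comm_all h1M.1 h2M.1 with e | e
    · exact absurd (mem_amax.2 ⟨h2M.1, e.symm⟩) h21
    · exact e
  have hv3 : v₃ = v₂ * v₁ * z := by
    rw [hz']
    calc v₃ = v₂ * (v₁ * v₁) * v₂ * v₃ := by rw [h1s, mul_one, h2s, one_mul]
      _ = v₂ * v₁ * (v₁ * v₂ * v₃) := by group
  have hq : v₂ * v₁ * (v₂ * v₁) = c := by
    calc v₂ * v₁ * (v₂ * v₁) = v₂ * (v₁ * v₂) * v₁ := by group
      _ = v₂ * (c * (v₂ * v₁)) * v₁ := by rw [h12]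
      _ = v₂ * c * (v₂ * (v₁ * v₁)) := by group
      _ = c * v₂ * v₂ := by rw [h1s, mul_one, h.commute_c h2M.1]
      _ = c := by rw [mul_assoc, h2s, mul_one]
  have hzz : z * z = c := by
    have h4 : c * (z * z) = 1 := by
      calc c * (z * z) = v₂ * v₁ * (v₂ * v₁) * (z * z) := by rw [hq]
        _ = v₂ * v₁ * ((v₂ * v₁) * z) * z := by group
        _ = v₂ * v₁ * (z * (v₂ * v₁)) * z := by
          rw [(mem_cen.1 hz).2 _ ((P : Subgroup G).mul_mem h2M.1 h1M.1)]
        _ = (v₂ * v₁ * z) * (v₂ * v₁ * z) := by group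
        _ = 1 := by rw [← hv3]; exact h3s
    rw [← inv_eq_of_mul_eq_one_right h4, h.inv_eq]
  obtain ⟨n, hn, hne⟩ := hEx
  apply hne
  apply eq_c_of_mem_cen h
  rw [← hzz, show n * (z * z) * n⁻¹ = n * z * n⁻¹ * (n * z * n⁻¹) by group]
  exact h.sq _ (((mem_normalizer_iff.1 hn z).1 (cen_le_amax hx hz))).1

theorem mem_amax_conj_iff {n x m : G} (hn : n ∈ normalizer ((P : Subgroup G) : Set G)) :
    n * m * n⁻¹ ∈ amax (P : Subgroup G) (n * x * n⁻¹) ↔ m ∈ amax (P : Subgroup G) x := by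
  rw [mem_amax, mem_amax, ← mem_normalizer_iff.1 hn m,
    show n * m * n⁻¹ * (n * x * n⁻¹) = n * (m * x) * n⁻¹ by group,
    show n * x * n⁻¹ * (n * m * n⁻¹) = n * (x * m) * n⁻¹ by group]
  exact and_congr_right fun _ => ⟨fun e => mul_left_cancel (mul_right_cancel e), fun e => by rw [e]⟩

theorem ess_conj (h : Quarter (P : Subgroup G) c) {n x : G}
    (hn : n ∈ normalizer ((P : Subgroup G) : Set G)) (hE : Ess (amax (P : Subgroup G) x) c) :
    Ess (amax (P : Subgroup G) (n * x * n⁻¹)) c := by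
  obtain ⟨m, hm, hne⟩ := hE
  refine ⟨n * m * n⁻¹, mem_normalizer_fintype fun a ha => ?_, fun e => hne ?_⟩
  · have ha' : n⁻¹ * a * n ∈ amax (P : Subgroup G) x := by
      rw [← mem_amax_conj_iff hn]
      rwa [show n * (n⁻¹ * a * n) * n⁻¹ = a by group]
    show n * m * n⁻¹ * a * (n * m * n⁻¹)⁻¹ ∈ amax (P : Subgroup G) (n * x * n⁻¹)
    rw [show n * m * n⁻¹ * a * (n * m * n⁻¹)⁻¹ = n * (m * (n⁻¹ * a * n) * m⁻¹) * n⁻¹ by group,
      mem_amax_conj_iff hn]
    exact (mem_normalizer_iff.1 hm _).1 ha'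
  · have hc : n⁻¹ * c * n = c := by
      conv_lhs => rw [← h.conj_c hn]
      group
    have e' : n * m * (n⁻¹ * c * n) * m⁻¹ * n⁻¹ = c :=
      Eq.trans (by group) e
    rw [hc] at e'
    calc m * c * m⁻¹ = n⁻¹ * (n * m * c * m⁻¹ * n⁻¹) * n := by group
      _ = c := by rw [e', hc]

/-- `N(P)` fixes each maximal abelian subgroup. -/
theorem conj_mem_amax (h : Quarter (P : Subgroup G) c) (hna : ¬ IsMulCommutative G) {n x : G}
    (hn : n ∈ normalizer ((P : Subgroup G) : Set G)) (hx : x ∈ (P : Subgroup G))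
    (hxZ : x ∉ cen (P : Subgroup G)) : n * x * n⁻¹ ∈ amax (P : Subgroup G) x := by
  obtain ⟨q, hq, k, hk, hodd, rfl⟩ := exists_decomp hn
  suffices hkx : k * x * k⁻¹ ∈ amax (P : Subgroup G) x by
    rw [show q * k * x * (q * k)⁻¹ = q * (k * x * k⁻¹) * q⁻¹ by group]
    exact (mem_normalizer_iff.1 (mem_normalizer_amax h hx hxZ hq) _).1 hkx
  by_contra hy
  have hmapN : ∀ {u : G}, u ∈ (P : Subgroup G) → k * u * k⁻¹ ∈ (P : Subgroup G) :=
    fun {u} hu => (mem_normalizer_iff.1 hk u).1 hu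
  have hZ' : ∀ {u : G}, u ∈ (P : Subgroup G) → u ∉ cen (P : Subgroup G) →
      k * u * k⁻¹ ∉ cen (P : Subgroup G) := fun {u} _ hu h' => hu (by
    have := conj_mem_cen (inv_mem hk) h'
    rwa [show k⁻¹ * (k * u * k⁻¹) * k⁻¹⁻¹ = u by group] at this)
  set y := k * x * k⁻¹ with hy'
  set u := k * y * k⁻¹ with hu'
  have hyP := hmapN hx
  have hyZ := hZ' hx hxZ
  have huP := hmapN hyP
  have huy : u ∉ amax (P : Subgroup G) y := fun hu => hy ((mem_amax_conj_iff hk).1 hu)
  have hux : u ∉ amax (P : Subgroup G) x := by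
    intro hu
    apply hy
    have h2 : k * k * x * (k * k)⁻¹ ∈ amax (P : Subgroup G) x := by
      rw [show k * k * x * (k * k)⁻¹ = u by rw [hu', hy']; group]
      exact hu
    have hkk : k * k ∈ normalizer ((P : Subgroup G) : Set G) := mul_mem hk hk
    have hfix : k * k ∈ normalizer (amax (P : Subgroup G) x : Set G) := by
      refine mem_normalizer_fintype fun m hm => ?_
      have h3 := (mem_amax_conj_iff hkk).2 hm
      have hu2 : k * k * x * (k * k)⁻¹ ∉ cen (P : Subgroup G) := by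
        rw [show k * k * x * (k * k)⁻¹ = u by rw [hu', hy']; group]
        exact hZ' hyP hyZ
      show k * k * m * (k * k)⁻¹ ∈ amax (P : Subgroup G) x
      rwa [h.amax_eq hx hxZ h2 hu2] at h3
    obtain ⟨j, hj⟩ := hodd
    have hk1 : k = ((k * k) ^ j)⁻¹ := by
      refine eq_inv_of_mul_eq_one_left ?_
      rw [← pow_two, ← pow_mul, ← pow_succ', ← hj, pow_orderOf_eq_one]
    rw [hy', hk1]
    exact (mem_normalizer_iff.1 (inv_mem (pow_mem hfix j)) x).1 (self_mem_amax hx)
  obtain ⟨v, hv, hvZ, hEv⟩ := exists_ess h hna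
  -- one, hence all three, are essential
  have hcase : v ∈ amax (P : Subgroup G) x ∨ v ∈ amax (P : Subgroup G) y ∨
      v ∈ amax (P : Subgroup G) u := by
    by_contra hne
    push Not at hne
    have h1 := h.mem_of_not_mem hx hxZ hyP hy hv hne.1 hne.2.1
    have h2 := h.mem_of_not_mem hx hxZ hyP hy huP hux huy
    apply hne.2.2
    have h3 : u⁻¹ * v ∈ cen (P : Subgroup G) := by
      have := mul_mem (inv_mem h2) h1
      rwa [show (x * y * u)⁻¹ * (x * y * v) = u⁻¹ * v by group] at this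
    rw [← mul_inv_cancel_left u v]
    exact mul_mem (self_mem_amax huP) (cen_le_amax huP h3)
  have hEx : Ess (amax (P : Subgroup G) x) c := by
    have hki := inv_mem hk
    have back : ∀ w, Ess (amax (P : Subgroup G) (k * w * k⁻¹)) c → Ess (amax (P : Subgroup G) w) c := by
      intro w hw
      have := ess_conj h hki hw
      rwa [show k⁻¹ * (k * w * k⁻¹) * k⁻¹⁻¹ = w by group] at this
    rcases hcase with hc | hc | hc
    · rwa [h.amax_eq hx hxZ hc hvZ] at hEv
    · rw [h.amax_eq hyP hyZ hc hvZ] at hEv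
      exact back x hEv
    · rw [h.amax_eq huP (hZ' hyP hyZ) hc hvZ] at hEv
      exact back x (back y hEv)
  exact not_three h hx hxZ hyP hy huP hux huy hEx (ess_conj h hk hEx)
    (ess_conj h hk (ess_conj h hk hEx))

/-- The differences under `N(P)` are central. -/
theorem diff_mem_cen (h : Quarter (P : Subgroup G) c) (hna : ¬ IsMulCommutative G) {n a : G}
    (hn : n ∈ normalizer ((P : Subgroup G) : Set G)) (ha : a ∈ (P : Subgroup G)) :
    a⁻¹ * (n * a * n⁻¹) ∈ cen (P : Subgroup G) := by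
  by_cases haZ : a ∈ cen (P : Subgroup G)
  · exact mul_mem (inv_mem haZ) (conj_mem_cen hn haZ)
  have h1 := conj_mem_amax h hna hn ha haZ
  have h2 : n * a * n⁻¹ ∉ cen (P : Subgroup G) := fun h' => haZ (by
    have := conj_mem_cen (inv_mem hn) h'
    rwa [show n⁻¹ * (n * a * n⁻¹) * n⁻¹⁻¹ = a by group] at this)
  have h3 := h.coset_of_commute h1.1 h2 ha haZ (mem_amax.1 h1).2
  rw [show a⁻¹ * (n * a * n⁻¹) = a⁻¹ * (n * a * n⁻¹ * a⁻¹) * a by group,
    (mem_cen.1 h3).2 a⁻¹ ((P : Subgroup G).inv_mem ha)]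
  rwa [inv_mul_cancel_right]

/-- At least two maximal abelian subgroups are essential. -/
theorem exists_two_ess (h : Quarter (P : Subgroup G) c) (hna : ¬ IsMulCommutative G) :
    ∃ x ∈ (P : Subgroup G), x ∉ cen (P : Subgroup G) ∧ ∃ y ∈ (P : Subgroup G),
      y ∉ amax (P : Subgroup G) x ∧
      Ess (amax (P : Subgroup G) x) c ∧ Ess (amax (P : Subgroup G) y) c := by
  obtain ⟨x, hx, hxZ, hEx⟩ := exists_ess h hna
  by_contra hc
  push Not at hc
  obtain ⟨p, hp, hpx⟩ := h.exists_notMem_amax hx hxZ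
  have hle : (P : Subgroup G).focalSubgroup ≤ amax (P : Subgroup G) x := by
    refine focalSubgroup_le_of_local _ fun D hD n hn a ha => ?_
    have hN : ∀ n ∈ normalizer ((P : Subgroup G) : Set G), ∀ a ∈ (P : Subgroup G),
        a⁻¹ * (n * a * n⁻¹) ∈ amax (P : Subgroup G) x :=
      fun n hn a ha => cen_le_amax hx (diff_mem_cen h hna hn ha)
    rcases isGood_cases h hD with rfl | ⟨w, hw, hwZ, rfl⟩
    · exact hN n hn a ha
    by_cases hwx : w ∈ amax (P : Subgroup G) x
    · rw [h.amax_eq hx hxZ hwx hwZ] at ha hn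
      exact mul_mem (inv_mem ha) ((mem_normalizer_iff.1 hn a).1 ha)
    · exact h.diff_mem_of_normalizer_amax _ hN hw hwZ
        (fun e ⟨m, hm, he⟩ hne => absurd ⟨m, hm, he.trans_ne hne⟩ (hc x hx hxZ w hw hwx hEx))
        hn ha
  rw [focal_eq hna P] at hle
  exact hpx (hle hp)

/-- **The Sylow 2-subgroup is dihedral of order eight.** -/
theorem sylow_dihedral (h : Quarter (P : Subgroup G) c) (hna : ¬ IsMulCommutative G) :
    Nonempty ((P : Subgroup G) ≃* DihedralGroup 4) := by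
  obtain ⟨x, hx, hxZ, y, hy, hyx, hEx, hEy⟩ := exists_two_ess h hna
  have hyZ : y ∉ cen (P : Subgroup G) := fun hz => hyx (cen_le_amax hx hz)
  obtain ⟨v₁, h1C, h1ne, h1M, h1Z, h1s⟩ := ess_involution h hx hEx
  obtain ⟨v₂, h2C, h2ne, h2M, h2Z, h2s⟩ := ess_involution h hy hEy
  have e1 := h.amax_eq hx hxZ h1M h1Z
  have h21 : v₂ ∉ amax (P : Subgroup G) x := fun h' => hyx (by
    rw [← h.amax_eq hx hxZ h' h2Z, h.amax_eq hy hyZ h2M h2Z]
    exact self_mem_amax hy)
  have h12 : v₁ * v₂ = c * (v₂ * v₁) := by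
    rcases h.comm_all h1M.1 h2M.1 with e | e
    · exact absurd (mem_amax.2 ⟨h2M.1, e.symm⟩) (e1 ▸ h21)
    · exact e
  have o1 : orderOf v₁ = 2 := orderOf_eq_prime (by rw [pow_two]; exact h1s)
    fun e => h1Z (e ▸ one_mem _)
  have o2 : orderOf v₂ = 2 := orderOf_eq_prime (by rw [pow_two]; exact h2s)
    fun e => h2Z (e ▸ one_mem _)
  set D := closure ({v₁, v₂} : Set G) with hD
  have hv₁D : v₁ ∈ D := subset_closure (by simp)
  have hv₂D : v₂ ∈ D := subset_closure (by simp)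
  have hsq : v₁ * v₂ * (v₁ * v₂) = c := by
    calc v₁ * v₂ * (v₁ * v₂) = c * (v₂ * v₁) * (v₁ * v₂) := by rw [h12]
      _ = c * (v₂ * (v₁ * v₁) * v₂) := by group
      _ = c := by rw [h1s, mul_one, h2s, mul_one]
  have hcD : c ∈ D := hsq ▸ mul_mem (mul_mem hv₁D hv₂D) (mul_mem hv₁D hv₂D)
  -- the elements of `D`
  set u := v₁ * v₂ with hu
  have hu4 : orderOf u = 4 := by
    haveI : Fact (Nat.Prime 2) := ⟨Nat.prime_two⟩
    have := orderOf_eq_prime_pow (G := G) (x := u) (p := 2) (n := 1)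
      (by rw [pow_one, pow_two, hsq]; exact h.ne_one)
      (by rw [show (2 : ℕ) ^ (1 + 1) = 2 + 2 from rfl, pow_add, pow_two, hsq, h.mul_self])
    simpa using this
  have huZ : u ∉ cen (P : Subgroup G) := fun hz => h21 (by
    rw [show v₂ = v₁ * u by rw [hu, ← mul_assoc, h1s, one_mul]]
    exact mul_mem h1M (cen_le_amax hx hz))
  have hDelem : ∀ d ∈ D, (d = 1 ∨ d = c ∨ d = u ∨ d = c * u) ∨
      ∃ e, (e = 1 ∨ e = c ∨ e = u ∨ e = c * u) ∧ d = v₁ * e := by
    intro d hd
    obtain ⟨k, hk⟩ := Small.mem_closure_pair_invol o1 o2 hd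
    have hpow : u ^ k = 1 ∨ u ^ k = c ∨ u ^ k = u ∨ u ^ k = c * u := by
      have e : u ^ k = u ^ (k % 4) := by
        conv_lhs => rw [← zpow_mod_orderOf, hu4]
        rfl
      rw [e]
      have h4 : k % 4 = 0 ∨ k % 4 = 1 ∨ k % 4 = 2 ∨ k % 4 = 3 := by omega
      rcases h4 with h4 | h4 | h4 | h4 <;> rw [h4]
      · exact Or.inl (zpow_zero u)
      · exact Or.inr (Or.inr (Or.inl (zpow_one u)))
      · exact Or.inr (Or.inl (by rw [zpow_two]; exact hsq))
      · exact Or.inr (Or.inr (Or.inr (by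
          rw [show (3 : ℤ) = 2 + 1 by norm_num, zpow_add, zpow_two, zpow_one, hsq])))
    rcases hk with rfl | rfl
    · exact Or.inl hpow
    · exact Or.inr ⟨_, hpow, rfl⟩
  have hDP : D ≤ (P : Subgroup G) := (closure_le _).2 (by
    rintro _ (rfl | rfl); exacts [h1M.1, h2M.1])
  have hDcen : ∀ d ∈ D, d ∈ cen (P : Subgroup G) → d = 1 ∨ d = c := by
    intro d hd hdZ
    rcases hDelem d hd with (rfl | rfl | rfl | rfl) | ⟨e, he, rfl⟩
    · exact Or.inl rfl
    · exact Or.inr rfl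
    · exact absurd hdZ huZ
    · exact absurd (by simpa using mul_mem (inv_mem h.mem_cen) hdZ) huZ
    · exfalso
      rcases he with rfl | rfl | rfl | rfl
      · exact h1Z (by simpa using hdZ)
      · exact h1Z (by simpa using mul_mem hdZ (inv_mem h.mem_cen))
      · exact h2Z (by rwa [hu, ← mul_assoc, h1s, one_mul] at hdZ)
      · apply h2Z
        rw [← mul_assoc, h.commute_c h1M.1, mul_assoc, hu, ← mul_assoc v₁, h1s, one_mul] at hdZ
        simpa using mul_mem (inv_mem h.mem_cen) hdZ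
  have hP_cases : ∀ a ∈ (P : Subgroup G), ∃ d ∈ D, d⁻¹ * a ∈ cen (P : Subgroup G) := by
    intro a ha
    by_cases haZ : a ∈ cen (P : Subgroup G)
    · exact ⟨1, one_mem D, by simpa using haZ⟩
    by_cases ha1 : a ∈ amax (P : Subgroup G) v₁
    · refine ⟨v₁, hv₁D, ?_⟩
      have h3 := h.coset_of_commute ha haZ h1M.1 h1Z (mem_amax.1 ha1).2
      rw [show v₁⁻¹ * a = v₁⁻¹ * (a * v₁⁻¹) * v₁ by group,
        (mem_cen.1 h3).2 _ ((P : Subgroup G).inv_mem h1M.1), inv_mul_cancel_right]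
      exact h3
    by_cases ha2 : a ∈ amax (P : Subgroup G) v₂
    · refine ⟨v₂, hv₂D, ?_⟩
      have h3 := h.coset_of_commute ha haZ h2M.1 h2Z (mem_amax.1 ha2).2
      rw [show v₂⁻¹ * a = v₂⁻¹ * (a * v₂⁻¹) * v₂ by group,
        (mem_cen.1 h3).2 _ ((P : Subgroup G).inv_mem h2M.1), inv_mul_cancel_right]
      exact h3
    refine ⟨u⁻¹, inv_mem (mul_mem hv₁D hv₂D), ?_⟩
    rw [inv_inv, hu]
    exact h.mem_of_not_mem h1M.1 h1Z h2M.1 (e1 ▸ h21) ha ha1 ha2
  -- invariance of `D` under `N(P)`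
  have hfix : ∀ {w v : G}, w ∈ (P : Subgroup G) → w ∉ cen (P : Subgroup G) →
      ConjC (amax (P : Subgroup G) w) c v → v ≠ c → v ∈ D →
      ∀ n ∈ normalizer ((P : Subgroup G) : Set G), n * v * n⁻¹ ∈ D := by
    intro w v hw hwZ hv hvc hvD n hn
    have hnM : n ∈ normalizer (amax (P : Subgroup G) w : Set G) := by
      refine mem_normalizer_fintype fun m hm => ?_
      by_cases hmZ : m ∈ cen (P : Subgroup G)
      · exact cen_le_amax hw (conj_mem_cen hn hmZ)
      · show n * m * n⁻¹ ∈ amax (P : Subgroup G) w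
        rw [← h.amax_eq hw hwZ hm hmZ]
        exact conj_mem_amax h hna hn hm.1 hmZ
    have hne : n * v * n⁻¹ ≠ c := fun e => hvc (by
      have hc : n⁻¹ * c * n = c := by
        conv_lhs => rw [← h.conj_c hn]
        group
      rw [← hc, ← e]; group)
    rcases h.conjC_cases hw hwZ hv hvc (hv.conj hnM) with e | e | e
    · exact absurd e hne
    · rw [e]; exact hvD
    · rw [e]; exact mul_mem hcD hvD
  have hDN : ∀ n ∈ normalizer ((P : Subgroup G) : Set G), ∀ d ∈ D, n * d * n⁻¹ ∈ D := by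
    intro n hn d hd
    rw [hD] at hd
    induction hd using closure_induction with
    | mem d hd =>
      rcases hd with rfl | rfl
      · exact hfix hx hxZ h1C h1ne hv₁D n hn
      · exact hfix hy hyZ h2C h2ne hv₂D n hn
    | one => simp
    | mul a b _ _ ha hb =>
      rw [show n * (a * b) * n⁻¹ = n * a * n⁻¹ * (n * b * n⁻¹) by group]
      exact mul_mem ha hb
    | inv a _ ha =>
      rw [show n * a⁻¹ * n⁻¹ = (n * a * n⁻¹)⁻¹ by group]
      exact inv_mem ha
  -- the conjugates of `c` lie in `D`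
  have hconjD : ∀ w ∈ (P : Subgroup G), w ∉ cen (P : Subgroup G) →
      ∀ e, ConjC (amax (P : Subgroup G) w) c e → e ≠ c → e ∈ D := by
    intro w hw hwZ e he hne
    by_cases hwx : w ∈ amax (P : Subgroup G) x
    · rw [h.amax_eq hx hxZ hwx hwZ] at he
      rcases h.conjC_cases hx hxZ h1C h1ne he with rfl | rfl | rfl
      exacts [absurd rfl hne, hv₁D, mul_mem hcD hv₁D]
    by_cases hwy : w ∈ amax (P : Subgroup G) y
    · rw [h.amax_eq hy hyZ hwy hwZ] at he
      rcases h.conjC_cases hy hyZ h2C h2ne he with rfl | rfl | rfl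
      exacts [absurd rfl hne, hv₂D, mul_mem hcD hv₂D]
    · obtain ⟨n, hn, rfl⟩ := he
      exact (not_three h hx hxZ hy hyx hw hwx hwy hEx hEy ⟨n, hn, hne⟩).elim
  -- the transvections fix the moved part of the centre
  have hTX : ∀ w ∈ (P : Subgroup G), w ∉ cen (P : Subgroup G) →
      ∀ n ∈ normalizer (amax (P : Subgroup G) w : Set G), n * c * n⁻¹ ≠ c →
      ∀ p ∈ (P : Subgroup G), p ∉ amax (P : Subgroup G) w → ∀ d ∈ moved P,
        n * p * n⁻¹ * d * (n * p * n⁻¹)⁻¹ = d := by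
    intro w hw hwZ n hn hne p hp hpw d hd
    rw [moved] at hd
    induction hd using closure_induction with
    | mem d hd =>
      obtain ⟨z, hz, m, hm, rfl⟩ := hd
      obtain ⟨q, hq, k, hk, hodd, rfl⟩ := exists_decomp hm
      rw [show q * k * z * (q * k)⁻¹ = q * (k * z * k⁻¹) * q⁻¹ by group,
        h.conj_cen hq (conj_mem_cen hk hz)]
      set M := amax (P : Subgroup G) w with hM
      set t := n * p * n⁻¹ with ht
      set e := n * c * n⁻¹ with he
      have hpN := mem_normalizer_amax h hw hwZ hp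
      have hkM : k ∈ normalizer (M : Set G) := by
        refine mem_normalizer_fintype fun a ha => ?_
        by_cases haZ : a ∈ cen (P : Subgroup G)
        · exact cen_le_amax hw (conj_mem_cen hk haZ)
        · show k * a * k⁻¹ ∈ M
          rw [hM, ← h.amax_eq hw hwZ ha haZ]
          exact conj_mem_amax h hna hk ha.1 haZ
      have hkc := h.conj_c hk
      have heM := h.conjC_mem hw ⟨n, hn, rfl⟩
      have hke : k * e * k⁻¹ = e := by
        have hC : ConjC M c (k * e * k⁻¹) := ConjC.conj ⟨n, hn, rfl⟩ hkM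
        rcases h.conjC_cases hw hwZ ⟨n, hn, rfl⟩ hne hC with h' | h' | h'
        · exfalso
          apply hne
          have hc : k⁻¹ * c * k = c := by
            conv_lhs => rw [← hkc]
            group
          calc e = k⁻¹ * (k * e * k⁻¹) * k := by group
            _ = c := by rw [h', hc]
        · exact h'
        · exfalso
          have hkk : k * k * e * (k * k)⁻¹ = e := by
            calc k * k * e * (k * k)⁻¹ = k * (k * e * k⁻¹) * k⁻¹ := by group
              _ = k * (c * e) * k⁻¹ := by rw [h']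
              _ = k * c * k⁻¹ * (k * e * k⁻¹) := by group
              _ = e := by rw [hkc, h', ← mul_assoc, h.mul_self, one_mul]
          have hkk' : k * k ∈ centralizer ({e} : Set G) :=
            mem_centralizer_singleton_iff.2 (mul_inv_eq_iff_eq_mul.1 hkk)
          obtain ⟨j, hj⟩ := hodd
          have hk1 : k = ((k * k) ^ j)⁻¹ := by
            refine eq_inv_of_mul_eq_one_left ?_
            rw [← pow_two, ← pow_mul, ← pow_succ', ← hj, pow_orderOf_eq_one]
          have hkce : k ∈ centralizer ({e} : Set G) := hk1 ▸ inv_mem (pow_mem hkk' j)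
          rw [mem_centralizer_singleton_iff.1 hkce, mul_inv_cancel_right] at h'
          exact h.ne_one (mul_eq_right.1 h'.symm)
      -- `k` commutes with the transvection on `M`
      have hkt : ∀ a ∈ M, k * (t * a * t⁻¹) * k⁻¹ = t * (k * a * k⁻¹) * t⁻¹ := by
        intro a ha
        have hcen : n⁻¹ * k * n * c * (n⁻¹ * k * n)⁻¹ = c := by
          rw [show n⁻¹ * k * n * c * (n⁻¹ * k * n)⁻¹ = n⁻¹ * (k * (n * c * n⁻¹) * k⁻¹) * n by group,
            ← he, hke, he]
          group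
        obtain ⟨g, hg, m₀, hm₀, hm₀M, hdec⟩ :=
          h.exists_centralizer_mul hw hwZ (mul_mem (mul_mem (inv_mem hn) hkM) hn) hcen
        have ha₁ : n⁻¹ * k * a * k⁻¹ * n ∈ M := by
          have := conj_inv_mem hn ((mem_normalizer_iff.1 hkM a).1 ha)
          rwa [show n⁻¹ * (k * a * k⁻¹) * n = n⁻¹ * k * a * k⁻¹ * n by group] at this
        set b := n⁻¹ * a * n with hb
        have hbM : b ∈ M := conj_inv_mem hn ha
        have hpb : p * b * p⁻¹ ∈ M := (mem_normalizer_iff.1 hpN b).1 hbM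
        have hact : ∀ a' ∈ M, g * m₀ * a' * (g * m₀)⁻¹ = m₀ * a' * m₀⁻¹ := by
          intro a' ha'
          rw [show g * m₀ * a' * (g * m₀)⁻¹ = g * (m₀ * a' * m₀⁻¹) * g⁻¹ by group,
            ← mem_centralizer_iff.1 hg _ ((mem_normalizer_iff.1 hm₀M a').1 ha'),
            mul_inv_cancel_right]
        have hq₁ : m₀ * p * m₀⁻¹ ∈ (P : Subgroup G) := (mem_normalizer_iff.1 hm₀ p).1 hp
        have hq₁M : m₀ * p * m₀⁻¹ ∉ M := fun h' => hpw (by
          have := conj_inv_mem hm₀M h'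
          rwa [show m₀⁻¹ * (m₀ * p * m₀⁻¹) * m₀ = p by group] at this)
        have hq_act : ∀ a' ∈ M, m₀ * p * m₀⁻¹ * a' * (m₀ * p * m₀⁻¹)⁻¹ = p * a' * p⁻¹ := by
          intro a' ha'
          by_cases hz' : a' ∈ cen (P : Subgroup G)
          · rw [h.conj_cen hq₁ hz', h.conj_cen hp hz']
          · rw [h.conj_amax hw hq₁ hq₁M ha' hz', h.conj_amax hw hp hpw ha' hz']
        calc k * (t * a * t⁻¹) * k⁻¹
            = n * (n⁻¹ * k * n * (p * b * p⁻¹) * (n⁻¹ * k * n)⁻¹) * n⁻¹ := by rw [ht, hb]; group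
          _ = n * (m₀ * (p * b * p⁻¹) * m₀⁻¹) * n⁻¹ := by rw [hdec, hact _ hpb]
          _ = n * (m₀ * p * m₀⁻¹ * (m₀ * b * m₀⁻¹) * (m₀ * p * m₀⁻¹)⁻¹) * n⁻¹ := by group
          _ = n * (p * (m₀ * b * m₀⁻¹) * p⁻¹) * n⁻¹ := by
            rw [hq_act _ ((mem_normalizer_iff.1 hm₀M b).1 hbM)]
          _ = n * (p * (g * m₀ * b * (g * m₀)⁻¹) * p⁻¹) * n⁻¹ := by rw [hact b hbM]
          _ = t * (k * a * k⁻¹) * t⁻¹ := by rw [← hdec, ht, hb]; group
      have hzM : z ∈ M := cen_le_amax hw hz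
      have h1 := hkt z hzM
      calc t * (z⁻¹ * (k * z * k⁻¹)) * t⁻¹ = (t * z * t⁻¹)⁻¹ * (t * (k * z * k⁻¹) * t⁻¹) := by group
        _ = (t * z * t⁻¹)⁻¹ * (k * (t * z * t⁻¹) * k⁻¹) := by rw [h1]
        _ = z⁻¹ * (k * z * k⁻¹) := by
          rcases h.transvection_cases hw hp hpw hn hzM with e' | e'
          · rw [← ht] at e'; rw [e']
          · rw [← ht, ← he] at e'
            rw [e', show k * (e * z) * k⁻¹ = k * e * k⁻¹ * (k * z * k⁻¹) by group, hke]
            group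
    | one => group
    | mul a b _ _ ha hb =>
      rw [show n * p * n⁻¹ * (a * b) * (n * p * n⁻¹)⁻¹
        = n * p * n⁻¹ * a * (n * p * n⁻¹)⁻¹ * (n * p * n⁻¹ * b * (n * p * n⁻¹)⁻¹) by group, ha, hb]
    | inv a _ ha =>
      rw [show n * p * n⁻¹ * a⁻¹ * (n * p * n⁻¹)⁻¹ = (n * p * n⁻¹ * a * (n * p * n⁻¹)⁻¹)⁻¹ by group,
        ha]
  -- `P` is generated by `D` and the moved part
  have hXP : moved P ≤ (P : Subgroup G) := moved_le_cen.trans inf_le_left
  have hNdiff : ∀ n ∈ normalizer ((P : Subgroup G) : Set G), ∀ a ∈ (P : Subgroup G),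
      a⁻¹ * (n * a * n⁻¹) ∈ D ⊔ moved P := by
    intro n hn a ha
    obtain ⟨d, hd, hz⟩ := hP_cases a ha
    have h1 : a⁻¹ * (n * a * n⁻¹)
        = (d⁻¹ * a)⁻¹ * (d⁻¹ * (n * d * n⁻¹)) * (n * (d⁻¹ * a) * n⁻¹) := by group
    have h2 : d⁻¹ * (n * d * n⁻¹) ∈ D := mul_mem (inv_mem hd) (hDN n hn d hd)
    rw [h1, show (d⁻¹ * a)⁻¹ * (d⁻¹ * (n * d * n⁻¹)) = d⁻¹ * (n * d * n⁻¹) * (d⁻¹ * a)⁻¹ from
      ((mem_cen.1 (inv_mem hz)).2 _ (hDP h2)).symm, mul_assoc]
    exact mul_mem (mem_sup_left h2) (mem_sup_right (diff_mem_moved hz hn))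
  have hsup : D ⊔ moved P = (P : Subgroup G) := by
    refine le_antisymm (sup_le hDP hXP) ?_
    calc (P : Subgroup G) = (P : Subgroup G).focalSubgroup := (focal_eq hna P).symm
      _ ≤ D ⊔ moved P := focalSubgroup_le_of_local _ fun D' hD' n hn a ha => by
        rcases isGood_cases h hD' with rfl | ⟨w, hw, hwZ, rfl⟩
        · exact hNdiff n hn a ha
        · exact h.diff_mem_of_normalizer_amax _ hNdiff hw hwZ
            (fun e he hne => mem_sup_left (hconjD w hw hwZ e he hne)) hn ha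
  have hdisj : D ⊓ moved P = ⊥ := by
    refine (eq_bot_iff_forall _).2 fun d ⟨hd, hd'⟩ => ?_
    rcases hDcen d hd (moved_le_cen hd') with e | e
    · exact e
    · exact absurd (e ▸ hd') h.c_notMem_moved
  -- strong closure
  have hloc : ∀ S : Subgroup G, (∀ n ∈ normalizer ((P : Subgroup G) : Set G), ∀ a ∈ S, n * a * n⁻¹ ∈ S) →
      (∀ w ∈ (P : Subgroup G), w ∉ cen (P : Subgroup G) →
        ∀ n ∈ normalizer (amax (P : Subgroup G) w : Set G), n * c * n⁻¹ ≠ c →
        ∀ p ∈ (P : Subgroup G), p ∉ amax (P : Subgroup G) w → ∀ a ∈ amax (P : Subgroup G) w, a ∈ S →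
          n * p * n⁻¹ * a * (n * p * n⁻¹)⁻¹ ∈ S) →
      S ≤ (P : Subgroup G) → Cfsg.IsStronglyClosed S (P : Subgroup G) := by
    intro S hSN hST hSP
    refine ⟨hSP, fun a ha g hg => ?_⟩
    refine conj_mem_of_local (S : Set G) ?_ ha (hSP ha) hg
    intro D' hD' n hn a ha' haS
    rcases isGood_cases h hD' with rfl | ⟨w, hw, hwZ, rfl⟩
    · exact hSN n hn a haS
    · exact h.conj_mem_of_normalizer_amax (S : Set G) (fun n hn a _ haS => hSN n hn a haS) hw hwZ
        (hST w hw hwZ) hn ha' haS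
  have hclX : Cfsg.IsStronglyClosed (moved P) (P : Subgroup G) :=
    hloc _ (fun n hn a ha => conj_mem_moved hn ha)
      (fun w hw hwZ n hn hne p hp hpw a _ ha => by rwa [hTX w hw hwZ n hn hne p hp hpw a ha]) hXP
  have hclD : Cfsg.IsStronglyClosed D (P : Subgroup G) := by
    refine hloc _ hDN (fun w hw hwZ n hn hne p hp hpw a ha haD => ?_) hDP
    rcases h.transvection_cases hw hp hpw hn ha with e | e <;> rw [e]
    · exact haD
    · exact mul_mem (hconjD w hw hwZ _ ⟨n, hn, rfl⟩ hne) haD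
  by_cases hX : moved P = ⊥
  · rw [hX, sup_bot_eq] at hsup
    have hne : v₁ ≠ v₂ := fun e => h21 (e ▸ h1M)
    have hr := Small.dihedralHom_range o1 o2
    rw [← hD, hsup] at hr
    have e := (MonoidHom.ofInjective (Small.dihedralHom_injective o1 o2 hne)).trans
      (MulEquiv.subgroupCongr hr)
    rw [← hu4]
    exact ⟨e.symm⟩
  · exfalso
    obtain ⟨⟨-, -, hcm, hd, -⟩, -, -⟩ := ProductFusion.direct_product (oddCore_eq_bot h) P hclD hclX
      (fun a ha b hb => (mem_cen.1 (moved_le_cen hb)).2 a (hDP ha)) hdisj hsup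
      (fun N hN hodd => (IsSimpleGroup.eq_bot_or_eq_top_of_normal N hN).resolve_left fun e => by
        rw [e, index_bot] at hodd
        exact hodd.not_two_dvd_nat (o1 ▸ orderOf_dvd_natCard v₁))
    have hG1 : normalClosure (D : Set G) = ⊤ :=
      (IsSimpleGroup.eq_bot_or_eq_top_of_normal _ normalClosure_normal).resolve_left fun e =>
        h1Z (by
          have : v₁ ∈ (⊥ : Subgroup G) := e ▸ subset_normalClosure hv₁D
          rw [mem_bot] at this
          exact this ▸ one_mem _)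
    rw [hG1, top_inf_eq] at hd
    exact hX (le_bot_iff.1 fun d hd' => hd ▸ subset_normalClosure hd')

end CfsgLib.QuarterCenter
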