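import Cfsg.Agent.QuarterCenter.Basic

/-!
# The automisers of the abelian maximal subgroups

The conjugates of `c` under `N(M)` are `c` alone, or `c, e, c e` with a single transvection for each.
-/

set_option autoImplicit false
set_option maxHeartbeats 400000

namespace CfsgLib.QuarterCenter

open Subgroup

variable {G : Type*} [Group G] [Finite G] {P : Sylow 2 G} {c x : G}

/-- Conjugates of `c` under the normalizer of `M`. -/
def ConjC (M : Subgroup G) (c e : G) : Prop :=
  ∃ n ∈ normalizer (M : Set G), n * c * n⁻¹ = e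

theorem conjC_self (M : Subgroup G) (c : G) : ConjC M c c := ⟨1, one_mem _, by group⟩

theorem ConjC.conj {M : Subgroup G} {c e g : G} (he : ConjC M c e)
    (hg : g ∈ normalizer (M : Set G)) : ConjC M c (g * e * g⁻¹) := by
  obtain ⟨n, hn, rfl⟩ := he
  exact ⟨g * n, mul_mem hg hn, by group⟩

theorem conj_inv_mem {M : Subgroup G} {g m : G} (hg : g ∈ normalizer (M : Set G)) (hm : m ∈ M) :
    g⁻¹ * m * g ∈ M := by
  have := (mem_normalizer_iff.1 (inv_mem hg) m).1 hm
  rwa [inv_inv] at this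

/-- `P` normalises its abelian maximal subgroups. -/
theorem mem_normalizer_amax (h : Quarter (P : Subgroup G) c) (hx : x ∈ (P : Subgroup G))
    (hxZ : x ∉ cen (P : Subgroup G)) {q : G} (hq : q ∈ (P : Subgroup G)) :
    q ∈ normalizer (amax (P : Subgroup G) x : Set G) := by
  refine mem_normalizer_fintype fun m hm => ?_
  rcases h.comm_all hq (show m ∈ (P : Subgroup G) from hm.1) with e | e
  · rwa [e, mul_inv_cancel_right]
  · rw [e, show c * (m * q) * q⁻¹ = c * m by group]
    exact mul_mem (cen_le_amax hx h.mem_cen) hm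

namespace Quarter

theorem conjC_mem (h : Quarter (P : Subgroup G) c) (hx : x ∈ (P : Subgroup G)) {e : G}
    (he : ConjC (amax (P : Subgroup G) x) c e) : e ∈ amax (P : Subgroup G) x := by
  obtain ⟨n, hn, rfl⟩ := he
  exact (mem_normalizer_iff.1 hn c).1 (cen_le_amax hx h.mem_cen)

theorem conjC_not_cen (h : Quarter (P : Subgroup G) c) {e : G}
    (he : ConjC (amax (P : Subgroup G) x) c e) (hne : e ≠ c) : e ∉ cen (P : Subgroup G) := by
  obtain ⟨n, hn, rfl⟩ := he
  exact fun hc => hne (eq_c_of_mem_cen h hc)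

theorem conjC_sq (h : Quarter (P : Subgroup G) c) {e : G}
    (he : ConjC (amax (P : Subgroup G) x) c e) : e * e = 1 := by
  obtain ⟨n, hn, rfl⟩ := he
  rw [show n * c * n⁻¹ * (n * c * n⁻¹) = n * (c * c) * n⁻¹ by group, h.mul_self, mul_one,
    mul_inv_cancel]

/-- A conjugate of `p` moves the conjugates of `c` other than its centre. -/
theorem conj_conjC (h : Quarter (P : Subgroup G) c) (hx : x ∈ (P : Subgroup G)) {p : G}
    (hp : p ∈ (P : Subgroup G)) (hpx : p ∉ amax (P : Subgroup G) x) {n f : G}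
    (hn : n ∈ normalizer (amax (P : Subgroup G) x : Set G))
    (hf : ConjC (amax (P : Subgroup G) x) c f) (hne : f ≠ n * c * n⁻¹) :
    n * p * n⁻¹ * f * (n * p * n⁻¹)⁻¹ = n * c * n⁻¹ * f := by
  have hf' := hf.conj (inv_mem hn)
  rw [inv_inv] at hf'
  have hne' : n⁻¹ * f * n ≠ c := fun e => hne (by rw [← e]; group)
  have h1 := h.conj_amax hx hp hpx (h.conjC_mem hx hf') (h.conjC_not_cen hf' hne')
  calc n * p * n⁻¹ * f * (n * p * n⁻¹)⁻¹ = n * (p * (n⁻¹ * f * n) * p⁻¹) * n⁻¹ := by group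
    _ = n * (c * (n⁻¹ * f * n)) * n⁻¹ := by rw [h1]
    _ = n * c * n⁻¹ * f := by group

/-- There are at most three conjugates of `c`. -/
theorem conjC_cases (h : Quarter (P : Subgroup G) c) (hx : x ∈ (P : Subgroup G))
    (hxZ : x ∉ cen (P : Subgroup G)) {e f : G} (he : ConjC (amax (P : Subgroup G) x) c e)
    (hne : e ≠ c) (hf : ConjC (amax (P : Subgroup G) x) c f) : f = c ∨ f = e ∨ f = c * e := by
  by_contra hc
  push Not at hc
  obtain ⟨hfc, hfe, hfce⟩ := hc
  obtain ⟨p, hp, hpx⟩ := h.exists_notMem_amax hx hxZ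
  obtain ⟨n, hn, hne'⟩ := id he
  subst hne'
  set M := amax (P : Subgroup G) x with hM
  set e := n * c * n⁻¹ with he'
  set t := n * p * n⁻¹ with ht
  have hpN := mem_normalizer_amax h hx hxZ hp
  have hcM : c ∈ M := cen_le_amax hx h.mem_cen
  have heM := h.conjC_mem hx he
  have hfM := h.conjC_mem hx hf
  have hpe : p * e * p⁻¹ = c * e :=
    h.conj_amax hx hp hpx heM (h.conjC_not_cen he hne)
  have hpf : p * f * p⁻¹ = c * f :=
    h.conj_amax hx hp hpx hfM (h.conjC_not_cen hf hfc)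
  have hpc : p * c * p⁻¹ = c := h.conj_cen hp h.mem_cen
  have hpf' : p⁻¹ * f * p = c * f := by
    have h1 : p * (c * f) * p⁻¹ = f := by
      rw [show p * (c * f) * p⁻¹ = p * c * p⁻¹ * (p * f * p⁻¹) by group, hpc, hpf, ← mul_assoc,
        h.mul_self, one_mul]
    conv_lhs => rw [← h1]
    group
  have htc : t * c * t⁻¹ = e * c :=
    h.conj_conjC hx hp hpx hn (conjC_self M c) (Ne.symm hne)
  have htf : t * f * t⁻¹ = e * f := h.conj_conjC hx hp hpx hn hf hfe
  -- the third transvection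
  have hs := h.conj_conjC hx hp hpx (n := p * n) (mul_mem hpN hn) hf (by
    rw [show p * n * c * (p * n)⁻¹ = p * e * p⁻¹ by rw [he']; group, hpe]
    exact hfce)
  rw [show p * n * c * (p * n)⁻¹ = p * e * p⁻¹ by rw [he']; group, hpe,
    show p * n * p * (p * n)⁻¹ * f * (p * n * p * (p * n)⁻¹)⁻¹
      = p * (t * (p⁻¹ * f * p) * t⁻¹) * p⁻¹ by rw [ht]; group, hpf',
    show t * (c * f) * t⁻¹ = t * c * t⁻¹ * (t * f * t⁻¹) by group, htc, htf] at hs
  have h2 : e * c * (e * f) = c * f := by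
    rw [h.amax_comm hx hxZ heM hcM, show c * e * (e * f) = c * (e * e) * f by group,
      h.conjC_sq he, mul_one]
  rw [h2, show p * (c * f) * p⁻¹ = p * c * p⁻¹ * (p * f * p⁻¹) by group, hpc, hpf, ← mul_assoc,
    h.mul_self, one_mul] at hs
  have h3 : c * e = 1 := mul_eq_right.1 hs.symm
  exact hne (by rw [← one_mul e, ← h.mul_self, mul_assoc, h3, mul_one])

/-- The stabiliser of `c` in `N(M)` is `C(M) (N(P) ∩ N(M))`. -/
theorem exists_centralizer_mul (h : Quarter (P : Subgroup G) c) (hx : x ∈ (P : Subgroup G))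
    (hxZ : x ∉ cen (P : Subgroup G)) {n : G} (hn : n ∈ normalizer (amax (P : Subgroup G) x : Set G))
    (hnc : n * c * n⁻¹ = c) :
    ∃ y ∈ centralizer (amax (P : Subgroup G) x : Set G),
      ∃ n₀ ∈ normalizer ((P : Subgroup G) : Set G), n₀ ∈ normalizer (amax (P : Subgroup G) x : Set G) ∧
        n = y * n₀ := by
  haveI : Fact (Nat.Prime 2) := ⟨Nat.prime_two⟩
  set M := amax (P : Subgroup G) x with hM
  set C := centralizer (M : Set G) with hC
  have hcM : c ∈ M := cen_le_amax hx h.mem_cen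
  have hMab : ∀ m ∈ M, ∀ m' ∈ M, m * m' = m' * m := fun m hm m' hm' => h.amax_comm hx hxZ hm hm'
  let H : Subgroup G :=
    { carrier := {g | g ∈ normalizer (M : Set G) ∧ g * c * g⁻¹ = c ∧
        ∀ m ∈ M, g * m * g⁻¹ = m ∨ g * m * g⁻¹ = c * m}
      one_mem' := ⟨one_mem _, by group, fun m _ => Or.inl (by group)⟩
      mul_mem' := by
        rintro g g' ⟨hg, hgc, hga⟩ ⟨hg', hg'c, hg'a⟩
        refine ⟨mul_mem hg hg', ?_, fun m hm => ?_⟩
        · rw [show g * g' * c * (g * g')⁻¹ = g * (g' * c * g'⁻¹) * g⁻¹ by group, hg'c, hgc]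
        · rw [show g * g' * m * (g * g')⁻¹ = g * (g' * m * g'⁻¹) * g⁻¹ by group]
          rcases hg'a m hm with e | e <;> rw [e]
          · exact hga m hm
          · rw [show g * (c * m) * g⁻¹ = g * c * g⁻¹ * (g * m * g⁻¹) by group, hgc]
            rcases hga m hm with e' | e' <;> rw [e']
            · exact Or.inr rfl
            · exact Or.inl (by rw [← mul_assoc, h.mul_self, one_mul])
      inv_mem' := by
        rintro g ⟨hg, hgc, hga⟩
        have hc' : g⁻¹ * c * g = c := by
          conv_lhs => rw [← hgc]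
          group
        refine ⟨inv_mem hg, by rw [inv_inv]; exact hc', fun m hm => ?_⟩
        rw [inv_inv]
        have hm' := conj_inv_mem hg hm
        rcases hga _ hm' with e | e
        · left
          rw [show g * (g⁻¹ * m * g) * g⁻¹ = m by group] at e
          exact e.symm
        · right
          rw [show g * (g⁻¹ * m * g) * g⁻¹ = m by group] at e
          calc g⁻¹ * m * g = c * (c * (g⁻¹ * m * g)) := by rw [← mul_assoc, h.mul_self, one_mul]
            _ = c * m := by rw [← e] }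
  have hCH : C ≤ H := fun g hg => by
    have hfix : ∀ m ∈ M, g * m * g⁻¹ = m := fun m hm => by
      rw [← mem_centralizer_iff.1 hg m hm, mul_inv_cancel_right]
    exact ⟨mem_normalizer_fintype fun m hm => by show g * m * g⁻¹ ∈ M; rw [hfix m hm]; exact hm,
      hfix c hcM, fun m hm => Or.inl (hfix m hm)⟩
  have hPH : (P : Subgroup G) ≤ H := fun q hq =>
    ⟨mem_normalizer_amax h hx hxZ hq, h.conj_cen hq h.mem_cen, fun m hm => by
      rcases h.comm_all hq (show m ∈ (P : Subgroup G) from hm.1) with e | e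
      · exact Or.inl (by rw [e, mul_inv_cancel_right])
      · exact Or.inr (by rw [e]; group)⟩
  have hsq : ∀ g ∈ H, g * g ∈ C := by
    rintro g ⟨hg, hgc, hga⟩
    refine mem_centralizer_iff.2 fun m hm => ?_
    have e : g * g * m * (g * g)⁻¹ = m := by
      rw [show g * g * m * (g * g)⁻¹ = g * (g * m * g⁻¹) * g⁻¹ by group]
      rcases hga m hm with e | e <;> rw [e]
      · exact e
      · rw [show g * (c * m) * g⁻¹ = g * c * g⁻¹ * (g * m * g⁻¹) by group, hgc, e, ← mul_assoc,
          h.mul_self, one_mul]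
    calc m * (g * g) = g * g * m * (g * g)⁻¹ * (g * g) := by rw [e]
      _ = g * g * m := by group
  have hHC : H ≤ normalizer (C : Set G) := fun g hg =>
    mem_normalizer_fintype fun y hy => by
      refine mem_centralizer_iff.2 fun m hm => ?_
      have h1 := mem_centralizer_iff.1 hy _ (conj_inv_mem hg.1 hm)
      calc m * (g * y * g⁻¹) = g * (g⁻¹ * m * g * y) * g⁻¹ := by group
        _ = g * (y * (g⁻¹ * m * g)) * g⁻¹ := by rw [h1]
        _ = g * y * g⁻¹ * m := by group
  have hHPC : H ≤ C ⊔ (P : Subgroup G) := by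
    haveI : (C.subgroupOf H).Normal := (normal_subgroupOf_iff_le_normalizer hCH).2 hHC
    have hq : IsPGroup 2 (H ⧸ C.subgroupOf H) := by
      intro q
      induction q using QuotientGroup.induction_on with
      | H g =>
        refine ⟨1, ?_⟩
        rw [pow_one, ← QuotientGroup.mk_pow, QuotientGroup.eq_one_iff, mem_subgroupOf, pow_two]
        exact hsq g g.2
    obtain ⟨k, hk⟩ := IsPGroup.iff_card.1 hq
    have h1 : (C ⊔ (P : Subgroup G)).relIndex H ∣ 2 ^ k := by
      rw [← hk, ← index_eq_card]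
      exact relIndex_dvd_of_le_left H le_sup_left
    have h2 : ¬ 2 ∣ (C ⊔ (P : Subgroup G)).relIndex H := fun hd => by
      have h3 := relIndex_dvd_of_le_left (L := H) (le_sup_right : (P : Subgroup G) ≤ C ⊔ (P : Subgroup G))
      have h4 : (P : Subgroup G).relIndex H ∣ (P : Subgroup G).index := relIndex_dvd_index_of_le hPH
      exact P.not_dvd_index (hd.trans (h3.trans h4))
    obtain ⟨j, -, hj⟩ := (Nat.dvd_prime_pow Nat.prime_two).1 h1
    rcases j with _ | j
    · exact relIndex_eq_one.1 (by rw [hj, pow_zero])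
    · exact absurd (by rw [hj, pow_succ]; exact dvd_mul_left 2 _) h2
  -- Frattini
  have hnH : ∀ g ∈ H, n * g * n⁻¹ ∈ H := by
    rintro g ⟨hg, hgc, hga⟩
    refine ⟨mul_mem (mul_mem hn hg) (inv_mem hn), ?_, fun m hm => ?_⟩
    · have e : n⁻¹ * c * n = c := by
        conv_lhs => rw [← hnc]
        group
      rw [show n * g * n⁻¹ * c * (n * g * n⁻¹)⁻¹ = n * (g * (n⁻¹ * c * n) * g⁻¹) * n⁻¹ by group,
        e, hgc, hnc]
    · rw [show n * g * n⁻¹ * m * (n * g * n⁻¹)⁻¹ = n * (g * (n⁻¹ * m * n) * g⁻¹) * n⁻¹ by group]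
      rcases hga _ (conj_inv_mem hn hm) with e | e <;> rw [e]
      · exact Or.inl (by group)
      · right
        rw [show n * (c * (n⁻¹ * m * n)) * n⁻¹ = n * c * n⁻¹ * m by group, hnc]
  have hle : ((n • P : Sylow 2 G) : Subgroup G) ≤ H := by
    rw [Sylow.coe_subgroup_smul]
    rintro _ ⟨q, hq, rfl⟩
    exact hnH q (hPH hq)
  obtain ⟨k, hk⟩ := MulAction.exists_smul_eq H ((n • P).subtype hle) (P.subtype hPH)
  have hk' : ∀ q ∈ (P : Subgroup G), (k : G) * n * q * ((k : G) * n)⁻¹ ∈ (P : Subgroup G) := by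
    intro q hq
    have hm : (⟨n * q * n⁻¹, hnH q (hPH hq)⟩ : H) ∈ ((n • P).subtype hle : Subgroup H) := by
      show n * q * n⁻¹ ∈ ((n • P : Sylow 2 G) : Subgroup G)
      rw [Sylow.coe_subgroup_smul]
      exact ⟨q, hq, rfl⟩
    have h1 : k * ⟨n * q * n⁻¹, hnH q (hPH hq)⟩ * k⁻¹ ∈ (P.subtype hPH : Subgroup H) := by
      rw [← hk, Sylow.coe_subgroup_smul]
      exact ⟨_, hm, rfl⟩
    rw [show (k : G) * n * q * ((k : G) * n)⁻¹ = (k : G) * (n * q * n⁻¹) * (k : G)⁻¹ by group]
    exact h1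
  have hkn : (k : G) * n ∈ normalizer ((P : Subgroup G) : Set G) := mem_normalizer_fintype hk'
  have hkinv : (k : G)⁻¹ ∈ C ⊔ (P : Subgroup G) := hHPC (H.inv_mem k.2)
  rw [← SetLike.mem_coe, coe_mul_of_right_le_normalizer_left C (P : Subgroup G) (hPH.trans hHC)]
    at hkinv
  obtain ⟨y, hy, q, hq, hyq⟩ := hkinv
  refine ⟨y, hy, q * ((k : G) * n), mul_mem (le_normalizer hq) hkn, ?_, ?_⟩
  · exact mul_mem (mem_normalizer_amax h hx hxZ hq) (mul_mem k.2.1 hn)
  · simp only at hyq
    rw [← mul_assoc, hyq, inv_mul_cancel_left]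

end Quarter

end CfsgLib.QuarterCenter
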